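import Mathlib.Algebra.Homology.ShortComplex.ModuleCat
import Mathlib.Algebra.Homology.DerivedCategory.Ext.ExactSequences
import Mathlib.Algebra.Homology.DerivedCategory.Ext.EnoughProjectives
import Mathlib.Algebra.Homology.DerivedCategory.Ext.Linear
import Mathlib.Algebra.Category.ModuleCat.Projective
import Mathlib.Algebra.Category.ModuleCat.Ext.HasExt
import Mathlib.RingTheory.Length

/-! The first extension group from a presentation. -/

set_option autoImplicit false

universe u

open CategoryTheory Abelian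

noncomputable section

namespace Groth.Agent.TFCurv38

variable {R : Type u} [CommRing R] {K F M N : Type u} [AddCommGroup K] [Module R K] [AddCommGroup F] [Module R F]
  [AddCommGroup M] [Module R M] [AddCommGroup N] [Module R N]

theorem ext_one_equiv [Module.Projective R F] (i : K →ₗ[R] F) (p : F →ₗ[R] M) (hi : Function.Injective i)
    (hp : Function.Surjective p) (hex : LinearMap.range i = LinearMap.ker p) :
    Nonempty (Ext (ModuleCat.of R M) (ModuleCat.of R N) 1 ≃ₗ[R]
      ((K →ₗ[R] N) ⧸ LinearMap.range (LinearMap.lcomp R N i))) := by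
  let S : ShortComplex (ModuleCat.{u} R) := ShortComplex.moduleCatMk (R := R) i p
    (LinearMap.range_le_ker_iff.1 hex.le)
  have hS : S.ShortExact :=
    { exact := (ShortComplex.moduleCat_exact_iff_range_eq_ker _).2 hex
      mono_f := (ModuleCat.mono_iff_injective _).2 hi
      epi_g := (ModuleCat.epi_iff_surjective _).2 hp }
  let L : (K →ₗ[R] N) →ₗ[R] Ext (ModuleCat.of R M) (ModuleCat.of R N) 1 :=
    { toFun := fun f => hS.extClass.comp (Ext.mk₀ (ModuleCat.ofHom f : S.X₁ ⟶ ModuleCat.of R N)) (add_zero 1)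
      map_add' := fun f g => (congrArg (fun z => hS.extClass.comp z (add_zero 1))
        (Ext.mk₀_add (ModuleCat.ofHom f : S.X₁ ⟶ ModuleCat.of R N) (ModuleCat.ofHom g))).trans
        (Ext.comp_add _ _ _ _)
      map_smul' := fun r f => (congrArg (fun z => hS.extClass.comp z (add_zero 1))
        (Ext.mk₀_smul (R := R) r (ModuleCat.ofHom f : S.X₁ ⟶ ModuleCat.of R N))).trans
        (Ext.comp_smul _ _ _ _) }
  have hsurj : Function.Surjective L := fun x => by
    have : Projective S.X₂ := inferInstanceAs (Projective (ModuleCat.of R F))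
    obtain ⟨y, hy⟩ := Ext.contravariant_sequence_exact₃ hS (ModuleCat.of R N) (n₁ := 1) x
      (Ext.eq_zero_of_projective _) (n₀ := 0) rfl
    obtain ⟨g, rfl⟩ := (Ext.mk₀_bijective _ _).2 y
    exact ⟨g.hom, hy⟩
  have hker : LinearMap.ker L = LinearMap.range (LinearMap.lcomp R N i) := by
    ext f
    constructor
    · intro hf
      obtain ⟨y, hy⟩ := Ext.contravariant_sequence_exact₁ hS (ModuleCat.of R N) (n₀ := 0)
        (Ext.mk₀ (ModuleCat.ofHom f : S.X₁ ⟶ ModuleCat.of R N)) (n₁ := 1) rfl hf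
      obtain ⟨g, rfl⟩ := (Ext.mk₀_bijective _ _).2 y
      rw [Ext.mk₀_comp_mk₀] at hy
      exact ⟨g.hom, congrArg ModuleCat.Hom.hom ((Ext.mk₀_bijective _ _).1 hy)⟩
    · rintro ⟨g, rfl⟩
      show hS.extClass.comp (Ext.mk₀ (ModuleCat.ofHom (g ∘ₗ i) : S.X₁ ⟶ ModuleCat.of R N)) (add_zero 1) = 0
      rw [show (ModuleCat.ofHom (g ∘ₗ i) : S.X₁ ⟶ ModuleCat.of R N) =
        S.f ≫ (ModuleCat.ofHom g : S.X₂ ⟶ ModuleCat.of R N) from rfl, ← Ext.mk₀_comp_mk₀,
        ShortComplex.ShortExact.extClass_comp_assoc]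
  exact ⟨((Submodule.quotEquivOfEq _ _ hker.symm).trans (L.quotKerEquivOfSurjective hsurj)).symm⟩

theorem length_ext_one [Module.Projective R F] (i : K →ₗ[R] F) (p : F →ₗ[R] M) (hi : Function.Injective i)
    (hp : Function.Surjective p) (hex : LinearMap.range i = LinearMap.ker p) :
    Module.length R (Ext (ModuleCat.of R M) (ModuleCat.of R N) 1) =
      Module.length R ((K →ₗ[R] N) ⧸ LinearMap.range (LinearMap.lcomp R N i)) := by
  obtain ⟨e⟩ := ext_one_equiv (N := N) i p hi hp hex
  exact e.length_eq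

end Groth.Agent.TFCurv38
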