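import Mathlib.RingTheory.Length
import Mathlib.RingTheory.LocalRing.ResidueField.Basic
import Mathlib.RingTheory.SimpleModule.Basic
import Mathlib.RingTheory.FiniteLength
import Mathlib.LinearAlgebra.Dimension.Finite
import Mathlib.LinearAlgebra.Dimension.RankNullity
import Mathlib.LinearAlgebra.Dimension.DivisionRing
import Mathlib.LinearAlgebra.FiniteDimensional.Basic

/-! Length over a local algebra with the base field as residue field. -/

set_option autoImplicit false

universe u v w

noncomputable section

namespace Groth.Agent.TFCurv38

variable {k : Type u} [Field k] {A : Type v} [CommRing A] [IsLocalRing A] [Algebra k A]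

theorem length_eq_finrank_of_residue (hres : Function.Surjective (algebraMap k (IsLocalRing.ResidueField A)))
    (Q : Type w) [AddCommGroup Q] [Module A Q] [Module k Q] [IsScalarTower k A Q] [Module.Finite k Q] :
    Module.length A Q = Module.finrank k Q := by
  suffices H : ∀ (n : ℕ) (S : Submodule A Q), Module.finrank k (S.restrictScalars k) = n →
      Module.length A S = n by
    have h := H _ ⊤ rfl
    rw [Module.length_top, Submodule.restrictScalars_top, finrank_top] at h
    exact h
  intro n
  induction n using Nat.strong_induction_on with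
  | h n ih =>
    intro S hS
    by_cases hbot : S = ⊥
    · subst hbot
      rw [Submodule.restrictScalars_bot, finrank_bot] at hS
      subst hS
      simp
    haveI : IsArtinian A Q := isArtinian_of_tower k inferInstance
    haveI : IsNoetherian A Q := isNoetherian_of_tower k inferInstance
    haveI : Nontrivial S := Submodule.nontrivial_iff_ne_bot.2 hbot
    obtain ⟨P, hP, -⟩ := (eq_top_or_exists_le_coatom (⊥ : Submodule A S)).resolve_left bot_ne_top
    haveI : IsSimpleModule A (S ⧸ P) := isSimpleModule_iff_isCoatom.2 hP
    obtain ⟨I, hI, ⟨e⟩⟩ := isSimpleModule_iff_quot_maximal.1 (inferInstance : IsSimpleModule A (S ⧸ P))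
    have hIm : I = IsLocalRing.maximalIdeal A := IsLocalRing.eq_maximalIdeal hI
    subst hIm
    have hlk : Module.finrank k (IsLocalRing.ResidueField A) = 1 := by
      refine finrank_eq_one (1 : IsLocalRing.ResidueField A) one_ne_zero fun x => ?_
      obtain ⟨c, rfl⟩ := hres x
      exact ⟨c, (Algebra.algebraMap_eq_smul_one c).symm⟩
    have h1 : Module.finrank k (S ⧸ P) = 1 := by
      rw [(e.restrictScalars k).finrank_eq]
      exact hlk
    haveI : Module.Finite k S := inferInstanceAs (Module.Finite k (S.restrictScalars k))
    have hsum : Module.finrank k (S ⧸ P) + Module.finrank k (P.restrictScalars k) = Module.finrank k S := by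
      rw [← (Submodule.Quotient.restrictScalarsEquiv k P).finrank_eq]
      exact Submodule.finrank_quotient_add_finrank _
    have hS' : Module.finrank k S = n := hS
    let P' : Submodule A Q := P.map S.subtype
    let eP : P ≃ₗ[A] P' := P.equivMapOfInjective S.subtype S.injective_subtype
    have hP' : Module.finrank k (P'.restrictScalars k) = Module.finrank k (P.restrictScalars k) :=
      ((eP.restrictScalars k).finrank_eq).symm
    have hlen : Module.length A P = ((n - 1 : ℕ) : ℕ∞) :=
      eP.length_eq.trans (ih (n - 1) (by omega) P' (by omega))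
    rw [Module.length_eq_add_of_exact P.subtype P.mkQ P.injective_subtype P.mkQ_surjective
      (LinearMap.exact_subtype_mkQ P), hlen, Module.length_eq_one]
    norm_cast
    omega

theorem length_quotient_of_proj (hres : Function.Surjective (algebraMap k (IsLocalRing.ResidueField A)))
    {M : Type w} [AddCommGroup M] [Module A M] [Module k M] [IsScalarTower k A M]
    (W B : Submodule A M) {ι : Type*} [Fintype ι] (π : M →ₗ[k] (ι → k))
    (hsurj : ∀ v, ∃ u ∈ W, π u = v) (hker : ∀ u ∈ W, (u ∈ B ↔ π u = 0)) :
    Module.length A (W ⧸ B.comap W.subtype) = Fintype.card ι := by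
  let P := B.comap W.subtype
  let f : W →ₗ[k] (ι → k) := π ∘ₗ W.subtype.restrictScalars k
  have hf : Function.Surjective f := fun v => by
    obtain ⟨u, hu, rfl⟩ := hsurj v
    exact ⟨⟨u, hu⟩, rfl⟩
  have hkerf : LinearMap.ker f = P.restrictScalars k := by
    ext ⟨u, hu⟩
    exact ((hker u hu)).symm
  let e : (W ⧸ P) ≃ₗ[k] (ι → k) := (Submodule.Quotient.restrictScalarsEquiv k P).symm.trans
    ((Submodule.quotEquivOfEq _ _ hkerf.symm).trans (f.quotKerEquivOfSurjective hf))
  haveI : Module.Finite k (W ⧸ P) := Module.Finite.equiv e.symm
  rw [length_eq_finrank_of_residue hres (W ⧸ P), e.finrank_eq, Module.finrank_fintype_fun_eq_card]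

end Groth.Agent.TFCurv38
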