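import Mathlib.Data.Nat.Nth
import Mathlib.Data.Set.Card
import Mathlib.Algebra.Group.Submonoid.Basic
import Mathlib.Data.Finset.Card
import Mathlib.Data.Nat.ModEq
import Mathlib.Tactic

/-! Numerical semigroups and their modules. -/

set_option autoImplicit false

namespace Groth.Agent.TFCurv38

theorem compl_subset_Iio {S : Set ℕ} {c : ℕ} (hc : ∀ n, c ≤ n → n ∈ S) : Sᶜ ⊆ Set.Iio c :=
  fun n hn => by
    by_contra h
    exact hn (hc n (by simpa using h))

theorem finite_compl {S : Set ℕ} {c : ℕ} (hc : ∀ n, c ≤ n → n ∈ S) : Sᶜ.Finite :=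
  (Set.finite_Iio c).subset (compl_subset_Iio hc)

theorem infinite_of_bound {S : Set ℕ} {c : ℕ} (hc : ∀ n, c ≤ n → n ∈ S) : S.Infinite :=
  Set.infinite_of_forall_exists_gt fun a => ⟨a + c + 1, hc _ (by omega), by omega⟩

section Count

variable {S : Set ℕ} {c : ℕ} [DecidablePred fun m => m ∈ S]

theorem ncard_compl_inter (x : ℕ) : (Sᶜ ∩ Set.Iio x).ncard + Nat.count (fun m => m ∈ S) x = x := by
  have h1 : Nat.count (fun m => m ∈ S) x = (S ∩ Set.Iio x).ncard := by
    rw [Nat.count_eq_card_filter_range, ← Set.ncard_coe_finset]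
    congr 1
    ext m
    simp [and_comm]
  have h2 := Set.ncard_inter_add_ncard_diff_eq_ncard (Set.Iio x) S (Set.finite_Iio x)
  rw [Set.inter_comm, ← h1, show Set.Iio x \ S = Sᶜ ∩ Set.Iio x from by ext m; simp [and_comm],
    show (Set.Iio x).ncard = x by rw [← Finset.coe_range, Set.ncard_coe_finset, Finset.card_range]] at h2
  omega

theorem count_inter (x : ℕ) : (S ∩ Set.Iio x).ncard = Nat.count (fun m => m ∈ S) x := by
  rw [Nat.count_eq_card_filter_range, ← Set.ncard_coe_finset]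
  congr 1
  ext m
  simp [and_comm]

theorem nth_le_add (hc : ∀ n, c ≤ n → n ∈ S) (i : ℕ) : Nat.nth (fun m => m ∈ S) i ≤ i + Sᶜ.ncard := by
  have h := ncard_compl_inter (S := S) (Nat.nth (fun m => m ∈ S) i)
  rw [Nat.count_nth_of_infinite (p := fun m => m ∈ S) (infinite_of_bound hc)] at h
  have := Set.ncard_le_ncard (Set.inter_subset_left : Sᶜ ∩ Set.Iio (Nat.nth (fun m => m ∈ S) i) ⊆ Sᶜ)
    (finite_compl hc)
  omega

theorem nth_eq_add (hc : ∀ n, c ≤ n → n ∈ S) (i : ℕ) (hi : (S ∩ Set.Iio c).ncard ≤ i) :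
    Nat.nth (fun m => m ∈ S) i = i + Sᶜ.ncard := by
  have hge : c ≤ Nat.nth (fun m => m ∈ S) i := by
    by_contra h
    have h2 := Nat.count_monotone (fun m => m ∈ S) (show Nat.nth (fun m => m ∈ S) i + 1 ≤ c by omega)
    rw [Nat.count_succ, Nat.count_nth_of_infinite (p := fun m => m ∈ S) (infinite_of_bound hc),
      if_pos (Nat.nth_mem_of_infinite (p := fun m => m ∈ S) (infinite_of_bound hc) i)] at h2
    rw [count_inter] at hi
    omega
  have h := ncard_compl_inter (S := S) (Nat.nth (fun m => m ∈ S) i)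
  rw [Nat.count_nth_of_infinite (p := fun m => m ∈ S) (infinite_of_bound hc),
    Set.inter_eq_left.2 ((compl_subset_Iio hc).trans (Set.Iio_subset_Iio hge))] at h
  omega

theorem nth_lt_add (hc : ∀ n, c ≤ n → n ∈ S) (hc1 : c - 1 ∉ S) (i : ℕ)
    (hi : i < (S ∩ Set.Iio c).ncard) : Nat.nth (fun m => m ∈ S) i < i + Sᶜ.ncard := by
  rw [count_inter] at hi
  have hlt : Nat.nth (fun m => m ∈ S) i < c := Nat.nth_lt_of_lt_count hi
  have hne : Nat.nth (fun m => m ∈ S) i ≠ c - 1 := fun e =>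
    hc1 (e ▸ Nat.nth_mem_of_infinite (p := fun m => m ∈ S) (infinite_of_bound hc) i)
  have h := ncard_compl_inter (S := S) (Nat.nth (fun m => m ∈ S) i)
  rw [Nat.count_nth_of_infinite (p := fun m => m ∈ S) (infinite_of_bound hc)] at h
  have h2 : (Sᶜ ∩ Set.Iio (Nat.nth (fun m => m ∈ S) i)).ncard < Sᶜ.ncard :=
    Set.ncard_lt_ncard ⟨Set.inter_subset_left, fun hsub => by
      have := (hsub hc1).2
      simp only [Set.mem_Iio] at this
      omega⟩ (finite_compl hc)
  omega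

end Count

variable {Γ : AddSubmonoid ℕ} {c : ℕ}

theorem exists_decomp_of_symmetric (hc : ∀ n, c ≤ n → n ∈ Γ)
    (hsymm : ∀ x : ℕ, x < c → (x ∉ Γ ↔ c - 1 - x ∈ Γ)) (hc0 : c ≠ 0) {e : ℕ} (he : e ∈ Γ) (he0 : e ≠ 0)
    (hemin : ∀ γ ∈ Γ, γ ≠ 0 → e ≤ γ) (he2 : 2 < e) {n : ℕ} (hn : c ≤ n) :
    ∃ γ ∈ Γ, γ ≠ 0 ∧ γ < n ∧ n - γ ∈ Γ := by
  by_contra h
  push Not at h
  have hec : e ≤ c := hemin c (hc c le_rfl) hc0
  have hen : e < n := by
    rcases eq_or_lt_of_le (hec.trans hn) with h' | h'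
    · exfalso
      have hn1 : c = n := by omega
      have h1 : ¬ (0 < c - 1 ∧ (1 : ℕ) ∈ Γ) := fun h1 => absurd (hemin 1 h1.2 one_ne_zero) (by omega)
      have := (hsymm (c - 2) (by omega)).1 (fun hm => absurd (hemin _ hm (by omega)) (by omega))
      rw [show c - 1 - (c - 2) = 1 by omega] at this
      exact h1 ⟨by omega, this⟩
    · exact h'
  have hlt : n < c + e := by
    by_contra hle
    exact h e he he0 hen (hc _ (by omega))
  have hstep : ∀ x ∈ Γ, x ≠ 0 → x < n → n - x < c ∧ c - 1 - (n - x) ∈ Γ := fun x hx hx0 hxn =>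
    ⟨by have := hemin x hx hx0; omega,
      (hsymm _ (by have := hemin x hx hx0; omega)).1 (h x hx hx0 hxn)⟩
  obtain ⟨-, hej⟩ := hstep e he he0 hen
  have hj : c - 1 - (n - e) = 0 := by
    by_contra hne
    have := hemin _ hej hne
    omega
  have hmul : ∀ x, x ∈ Γ → x < n → e ∣ x := by
    intro x
    induction x using Nat.strong_induction_on with
    | h x ih =>
      intro hx hxn
      rcases Nat.eq_zero_or_pos x with rfl | hpos
      · exact dvd_zero e
      · have hex := hemin x hx (by omega)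
        obtain ⟨-, h2⟩ := hstep x hx (by omega) hxn
        rw [show c - 1 - (n - x) = x - e by omega] at h2
        have := ih (x - e) (by omega) h2 (by omega)
        simpa [Nat.sub_add_cancel hex] using Nat.dvd_add this (dvd_refl e)
  have h1 := hmul c (hc c le_rfl) (by omega)
  have h2 := hmul (c + 1) (hc _ (by omega)) (by omega)
  have h3 : e ∣ 1 := (Nat.dvd_add_right h1).1 h2
  have := Nat.le_of_dvd one_pos h3
  omega

theorem closure_lt_conductor (hc : ∀ n, c ≤ n → n ∈ Γ)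
    (hsymm : ∀ x : ℕ, x < c → (x ∉ Γ ↔ c - 1 - x ∈ Γ)) (hc0 : c ≠ 0) {e : ℕ} (he : e ∈ Γ) (he0 : e ≠ 0)
    (hemin : ∀ γ ∈ Γ, γ ≠ 0 → e ≤ γ) (he2 : 2 < e) :
    AddSubmonoid.closure {γ : ℕ | γ ∈ Γ ∧ γ < c} = Γ := by
  refine le_antisymm ((AddSubmonoid.closure_le).2 fun γ hγ => hγ.1) fun n => ?_
  induction n using Nat.strong_induction_on with
  | h n ih =>
    intro hn
    by_cases hnc : n < c
    · exact AddSubmonoid.subset_closure ⟨hn, hnc⟩
    · obtain ⟨γ, hγ, hγ0, hγn, hd⟩ := exists_decomp_of_symmetric hc hsymm hc0 he he0 hemin he2 (Nat.not_lt.1 hnc)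
      rw [show n = γ + (n - γ) by omega]
      exact add_mem (ih γ hγn hγ) (ih (n - γ) (by omega) hd)

end Groth.Agent.TFCurv38
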