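import Mathlib.RingTheory.PowerSeries.Order
import Mathlib.RingTheory.PowerSeries.Inverse
import Mathlib.RingTheory.Finiteness.Basic
import Mathlib.Algebra.Algebra.Subalgebra.Lattice
import Mathlib.RingTheory.Adjoin.Basic
import Mathlib.LinearAlgebra.Dimension.Finite
import Mathlib.Tactic

/-! Leading exponents in subspaces of a power series ring. -/

set_option autoImplicit false

noncomputable section

namespace Groth.Agent.TFCurv38

open PowerSeries

universe u

variable {k : Type u} [Field k]

theorem nat_le_order_iff {f : PowerSeries k} {n : ℕ} : (n : ℕ∞) ≤ order f ↔ ∀ i < n, coeff i f = 0 :=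
  ⟨fun h i hi => coeff_of_lt_order i (lt_of_lt_of_le (by exact_mod_cast hi) h), nat_le_order f n⟩

theorem coeff_ne_zero_of_order_eq {f : PowerSeries k} {n : ℕ} (h : order f = n) : coeff n f ≠ 0 :=
  (order_eq_nat.1 h).1

theorem coeff_eq_zero_of_lt {f : PowerSeries k} {n i : ℕ} (h : (n : ℕ∞) ≤ order f) (hi : i < n) : coeff i f = 0 :=
  nat_le_order_iff.1 h i hi

theorem exists_eq_X_pow_mul {f : PowerSeries k} {n : ℕ} (h : (n : ℕ∞) ≤ order f) :
    ∃ g, f = (X : PowerSeries k) ^ n * g :=
  (X_pow_dvd_iff.2 fun i hi => coeff_eq_zero_of_lt h hi)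

theorem le_order_of_X_pow_mul {n : ℕ} (g : PowerSeries k) : (n : ℕ∞) ≤ order ((X : PowerSeries k) ^ n * g) := by
  rw [order_mul, order_X_pow]
  exact le_self_add

/-- Modulo a subspace, every series is a combination of monomials at non-leading exponents, up to high order. -/
theorem exists_approx (N : Submodule k (PowerSeries k)) (f : PowerSeries k) (m : ℕ) :
    ∃ g ∈ N, ∃ r : PowerSeries k, (∀ i, coeff i r ≠ 0 → i < m ∧ ¬ ∃ h ∈ N, order h = i) ∧
      (m : ℕ∞) ≤ order (f - g - r) := by
  induction m with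
  | zero => exact ⟨0, N.zero_mem, 0, fun i hi => by simp at hi, by simp⟩
  | succ m ih =>
    obtain ⟨g, hg, r, hr, hord⟩ := ih
    by_cases hm : ∃ h ∈ N, order h = m
    · obtain ⟨h, hh, hhord⟩ := hm
      refine ⟨g + (coeff m (f - g - r) / coeff m h) • h, N.add_mem hg (N.smul_mem _ hh), r,
        fun i hi => ⟨Nat.lt_succ_of_lt (hr i hi).1, (hr i hi).2⟩, nat_le_order_iff.2 fun i hi => ?_⟩
      rw [show f - (g + (coeff m (f - g - r) / coeff m h) • h) - r =
        (f - g - r) - (coeff m (f - g - r) / coeff m h) • h by ring, map_sub, coeff_smul, smul_eq_mul]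
      rcases Nat.lt_succ_iff_lt_or_eq.1 hi with hlt | rfl
      · rw [coeff_eq_zero_of_lt hord hlt, coeff_eq_zero_of_lt hhord.ge hlt, mul_zero, sub_zero]
      · rw [div_mul_cancel₀ _ (coeff_ne_zero_of_order_eq hhord), sub_self]
    · refine ⟨g, hg, r + monomial m (coeff m (f - g - r)), fun i hi => ?_, nat_le_order_iff.2 fun i hi => ?_⟩
      · rw [map_add, coeff_monomial] at hi
        by_cases him : i = m
        · exact ⟨him ▸ Nat.lt_succ_self m, him ▸ hm⟩
        · rw [if_neg him, add_zero] at hi
          exact ⟨Nat.lt_succ_of_lt (hr i hi).1, (hr i hi).2⟩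
      · rw [show f - g - (r + monomial m (coeff m (f - g - r))) = (f - g - r) - monomial m (coeff m (f - g - r))
          by ring, map_sub, coeff_monomial]
        rcases Nat.lt_succ_iff_lt_or_eq.1 hi with hlt | rfl
        · rw [coeff_eq_zero_of_lt hord hlt, if_neg hlt.ne, sub_zero]
        · rw [if_pos rfl, sub_self]

/-- A closed subspace containing all leading exponents from `c` on contains all series of order at least `c`. -/
theorem mem_of_forall_orders (N : Submodule k (PowerSeries k))
    (hcl : ∀ f : PowerSeries k, (∀ n : ℕ, ∃ g ∈ N, (n : ℕ∞) ≤ order (f - g)) → f ∈ N) {c : ℕ}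
    (h : ∀ n, c ≤ n → ∃ g ∈ N, order g = n) {f : PowerSeries k} (hf : (c : ℕ∞) ≤ order f) : f ∈ N := by
  refine hcl f fun n => ?_
  induction n with
  | zero => exact ⟨0, N.zero_mem, by simp⟩
  | succ m ih =>
    obtain ⟨g, hg, hord⟩ := ih
    rcases lt_or_ge m c with hmc | hmc
    · exact ⟨0, N.zero_mem, by rw [sub_zero]; exact le_trans (by exact_mod_cast hmc) hf⟩
    · obtain ⟨h', hh, hhord⟩ := h m hmc
      refine ⟨g + (coeff m (f - g) / coeff m h') • h', N.add_mem hg (N.smul_mem _ hh),
        nat_le_order_iff.2 fun i hi => ?_⟩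
      rw [show f - (g + (coeff m (f - g) / coeff m h') • h') = (f - g) - (coeff m (f - g) / coeff m h') • h' by
        ring, map_sub, coeff_smul, smul_eq_mul]
      rcases Nat.lt_succ_iff_lt_or_eq.1 hi with hlt | rfl
      · rw [coeff_eq_zero_of_lt hord hlt, coeff_eq_zero_of_lt hhord.ge hlt, mul_zero, sub_zero]
      · rw [div_mul_cancel₀ _ (coeff_ne_zero_of_order_eq hhord), sub_self]

/-- The codimension of a subspace with cofinitely many leading exponents. -/
theorem finrank_quotient_eq (N : Submodule k (PowerSeries k)) {c : ℕ}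
    (hc : ∀ f : PowerSeries k, (c : ℕ∞) ≤ order f → f ∈ N) (G : Set ℕ)
    (hG : ∀ n, n ∈ G ↔ ∃ f ∈ N, order f = n) : Module.finrank k (PowerSeries k ⧸ N) = Gᶜ.ncard := by
  classical
  have hfin : Gᶜ.Finite := (Set.finite_Iio c).subset fun n hn => by
    by_contra h
    exact hn ((hG n).2 ⟨X ^ n, hc _ (by rw [order_X_pow]; exact_mod_cast Nat.not_lt.1 h), order_X_pow n⟩)
  haveI : Fintype ↥(Gᶜ) := hfin.fintype
  let Φ : (↥(Gᶜ) → k) →ₗ[k] PowerSeries k := ∑ i : ↥(Gᶜ), (monomial (i : ℕ)) ∘ₗ LinearMap.proj i
  have hΦ : ∀ a, Φ a = ∑ i : ↥(Gᶜ), monomial (i : ℕ) (a i) := fun a => by simp [Φ]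
  have hcoef : ∀ a j, coeff j (Φ a) = if h : j ∈ Gᶜ then a ⟨j, h⟩ else 0 := by
    intro a j
    rw [hΦ, map_sum]
    by_cases h : j ∈ Gᶜ
    · rw [dif_pos h, Finset.sum_eq_single ⟨j, h⟩]
      · simp [coeff_monomial]
      · intro b _ hb
        rw [coeff_monomial, if_neg fun e => hb (Subtype.ext e.symm)]
      · simp
    · rw [dif_neg h]
      refine Finset.sum_eq_zero fun b _ => ?_
      rw [coeff_monomial, if_neg fun e => h (by rw [e]; exact b.2)]
  have hbij : Function.Bijective (N.mkQ ∘ₗ Φ) := by
    constructor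
    · refine (injective_iff_map_eq_zero _).2 fun a ha => ?_
      have hmem : Φ a ∈ N := (Submodule.Quotient.mk_eq_zero N).1 ha
      by_contra hne
      obtain ⟨i, hi⟩ := Function.ne_iff.1 hne
      have hne' : Φ a ≠ 0 := fun e => hi (by
        have := hcoef a (i : ℕ)
        rw [dif_pos i.2, e, map_zero] at this
        simpa using this.symm)
      have h1 := coeff_order hne'
      rw [hcoef] at h1
      by_cases hj : (order (Φ a)).toNat ∈ Gᶜ
      · exact hj ((hG _).2 ⟨_, hmem, (coe_toNat_order hne').symm⟩)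
      · exact h1 (dif_neg hj)
    · intro q
      obtain ⟨f, rfl⟩ := N.mkQ_surjective q
      obtain ⟨g, hg, r, hr, hord⟩ := exists_approx N f c
      refine ⟨fun i => coeff (i : ℕ) r, (Submodule.Quotient.eq N).2 ?_⟩
      have hr' : Φ (fun i => coeff (i : ℕ) r) = r := by
        ext j
        rw [hcoef]
        split_ifs with h
        · rfl
        · exact not_not.1 fun hne => h fun hG' => (hr j (Ne.symm hne)).2 ((hG j).1 hG')
      rw [hr', show r - f = -(f - g - r) - g by ring]
      exact N.sub_mem (N.neg_mem (hc _ hord)) hg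
  rw [← (LinearEquiv.ofBijective _ hbij).finrank_eq, Module.finrank_fintype_fun_eq_card,
    ← Nat.card_eq_fintype_card]
  rfl

/-- A finitely generated module over a subalgebra over which all series are finite has a positive exponent. -/
theorem exists_pos_order (A : Subalgebra k (PowerSeries k)) (hA : Module.Finite ↥A (PowerSeries k)) :
    ∃ a ∈ A, ∃ d : ℕ, 0 < d ∧ order a = d := by
  by_contra h
  push Not at h
  have hconst : ∀ a ∈ A, a = C (constantCoeff a) := by
    intro a ha
    by_contra hne
    have hne' : a - C (constantCoeff a) ≠ 0 := sub_ne_zero.2 hne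
    refine h _ (A.sub_mem ha (A.algebraMap_mem (constantCoeff a))) _ ?_ (coe_toNat_order hne').symm
    rcases Nat.eq_zero_or_pos (order (a - C (constantCoeff a))).toNat with h0 | h0
    · exfalso
      have := coeff_order hne'
      simp [h0] at this
    · exact h0
  obtain ⟨s, hs⟩ := hA.fg_top
  have htop : Submodule.span k (s : Set (PowerSeries k)) = ⊤ := by
    refine eq_top_iff.2 fun f _ => ?_
    have hf : f ∈ Submodule.span ↥A (s : Set (PowerSeries k)) := hs ▸ Submodule.mem_top
    induction hf using Submodule.span_induction with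
    | mem x hx => exact Submodule.subset_span hx
    | zero => exact Submodule.zero_mem _
    | add x y _ _ hx hy => exact Submodule.add_mem _ (hx Submodule.mem_top) (hy Submodule.mem_top)
    | smul b x _ hx =>
      show (b : PowerSeries k) * x ∈ _
      rw [hconst _ b.2, ← PowerSeries.smul_eq_C_mul]
      exact Submodule.smul_mem _ _ (hx Submodule.mem_top)
  haveI : Module.Finite k (PowerSeries k) := ⟨⟨s, htop⟩⟩
  have hli : LinearIndependent k (fun n : ℕ => (X : PowerSeries k) ^ n) := by
    refine linearIndependent_iff'.2 fun S g hg i hi => ?_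
    have := congrArg (coeff i) hg
    simpa [map_sum, coeff_X_pow, hi, Finset.sum_ite_eq] using this
  haveI : Finite ℕ := hli.finite
  exact not_finite ℕ

end Groth.Agent.TFCurv38
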