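import Mathlib.LinearAlgebra.LinearIndependent.Lemmas
import Mathlib.RingTheory.Finiteness.Basic
import Mathlib.LinearAlgebra.Finsupp.LinearCombination
import Mathlib.Algebra.Module.Torsion.Free
import Mathlib.LinearAlgebra.StdBasis

/-! A finite torsion-free module over a domain is a submodule of a free one. -/

set_option autoImplicit false

noncomputable section

namespace Groth.Agent.TFCurv38

universe u

theorem exists_injective_to_free (O : Type u) [CommRing O] [IsDomain O] (M : Type u) [AddCommGroup M] [Module O M]
    [Module.Finite O M] [NoZeroSMulDivisors O M] :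
    ∃ (r : ℕ) (f : M →ₗ[O] (Fin r → O)) (c : O), c ≠ 0 ∧ Function.Injective f ∧
      ∀ y : (Fin r → O) ⧸ LinearMap.range f, c • y = 0 := by
  classical
  obtain ⟨m, v, hv⟩ := Module.Finite.exists_fin (R := O) (M := M)
  obtain ⟨s, hs, hmax⟩ := exists_maximal_linearIndepOn O v
  have hli : LinearIndependent O (fun i : s => v i) := hs
  let P : Submodule O M := Submodule.span O (Set.range fun i : s => v i)
  let b : Module.Basis s O P := Module.Basis.span hli
  have himg : v '' s = Set.range fun i : s => v i := Set.image_eq_range v s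
  have hall : ∀ i, ∃ a : O, a ≠ 0 ∧ a • v i ∈ P := fun i => by
    by_cases hi : i ∈ s
    · exact ⟨1, one_ne_zero, by simpa using Submodule.subset_span (s := Set.range fun i : s => v i) ⟨⟨i, hi⟩, rfl⟩⟩
    · obtain ⟨a, ha, h⟩ := hmax i hi
      exact ⟨a, ha, by rw [himg] at h; exact h⟩
  choose a ha hmem using hall
  let c := ∏ i, a i
  have hc : c ≠ 0 := Finset.prod_ne_zero_iff.2 fun i _ => ha i
  have hcP : ∀ x : M, c • x ∈ P := fun x => by
    have hx : x ∈ Submodule.span O (Set.range v) := hv ▸ Submodule.mem_top
    induction hx using Submodule.span_induction with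
    | mem y hy =>
      obtain ⟨i, rfl⟩ := hy
      rw [show c = (∏ j ∈ Finset.univ.erase i, a j) * a i from (Finset.prod_erase_mul _ _ (Finset.mem_univ i)).symm, mul_smul]
      exact P.smul_mem _ (hmem i)
    | zero => simp
    | add y z _ _ hy hz => rw [smul_add]; exact P.add_mem hy hz
    | smul r y _ hy => rw [smul_comm]; exact P.smul_mem r hy
  let e : P ≃ₗ[O] (Fin (Fintype.card s) → O) := (b.reindex (Fintype.equivFin s)).equivFun
  let f : M →ₗ[O] (Fin (Fintype.card s) → O) :=
    e.toLinearMap ∘ₗ (DistribSMul.toLinearMap O M c).codRestrict P hcP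
  refine ⟨Fintype.card s, f, c, hc, fun x y h => ?_, fun y => ?_⟩
  · have h' := congrArg Subtype.val (e.injective h)
    exact smul_right_injective M hc h'
  · obtain ⟨y, rfl⟩ := Submodule.Quotient.mk_surjective _ y
    rw [← Submodule.Quotient.mk_smul, Submodule.Quotient.mk_eq_zero]
    refine ⟨(e.symm y : M), ?_⟩
    show e ⟨c • (e.symm y : M), _⟩ = c • y
    rw [show (⟨c • (e.symm y : M), hcP _⟩ : P) = c • e.symm y from rfl, map_smul, e.apply_symm_apply]

end Groth.Agent.TFCurv38
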