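import Groth.Agent.TFCurv38.ExtOne
import Mathlib.Algebra.Category.ModuleCat.Basic

/-! Extension groups of isomorphic modules. -/

set_option autoImplicit false

universe u

open CategoryTheory Abelian

noncomputable section

namespace Groth.Agent.TFCurv38

variable {R : Type u} [CommRing R]

theorem length_ext_congr {M M' N N' : ModuleCat.{u} R} (f : M ≅ M') (g : N ≅ N') (n : ℕ) :
    Module.length R (Ext M N n) = Module.length R (Ext M' N' n) := by
  let F : Ext M N n →ₗ[R] Ext M' N' n :=
    { toFun := fun x => (Ext.mk₀ f.inv).comp (x.comp (Ext.mk₀ g.hom) (add_zero n)) (zero_add n)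
      map_add' := fun x y => by simp
      map_smul' := fun r x => by simp }
  refine (LinearEquiv.ofBijective F ⟨fun x y h => ?_, fun y => ?_⟩).length_eq
  · have h' := congrArg (fun z => (Ext.mk₀ f.hom).comp (z.comp (Ext.mk₀ g.inv) (add_zero n)) (zero_add n)) h
    simpa [F] using h'
  · refine ⟨(Ext.mk₀ f.hom).comp (y.comp (Ext.mk₀ g.inv) (add_zero n)) (zero_add n), ?_⟩
    simp [F]

theorem length_ext_top (T : Type u) [AddCommGroup T] [Module R T] (n : ℕ) :
    Module.length R (Ext (ModuleCat.of R T) (ModuleCat.of R T) n) =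
      Module.length R (Ext (ModuleCat.of R (⊤ : Submodule R T)) (ModuleCat.of R (⊤ : Submodule R T)) n) :=
  length_ext_congr (Submodule.topEquiv (R := R) (M := T)).toModuleIso.symm
    (Submodule.topEquiv (R := R) (M := T)).toModuleIso.symm n

end Groth.Agent.TFCurv38
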