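import Groth.Agent.TFCurv38.Extend
import Groth.Agent.TFCurv38.Embed
import Groth.Agent.TFCurv38.ExtIso
import Mathlib.GroupTheory.QuotientGroup.Basic
import Mathlib.RingTheory.Noetherian.Basic

/-! Extensions and duality into a canonical ideal. -/

set_option autoImplicit false

noncomputable section

namespace Groth.Agent.TFCurv38

open CategoryTheory Abelian

universe u

variable {O : Type u} [CommRing O] [IsDomain O] [IsNoetherianRing O] {K : Type u} [Field K] [Algebra O K]
  [IsFractionRing O K] {ω : Submodule O K} (hωfg : ω.FG)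
  (hωinj : HasInjectiveDimensionLT (ModuleCat.of O ↥ω) 2)

omit [IsNoetherianRing O] [IsFractionRing O K] in
include hωinj in
theorem ext_omega_subsingleton (M : Type u) [AddCommGroup M] [Module O M] [Module.Finite O M]
    [NoZeroSMulDivisors O M] (i : ℕ) (hi : 1 ≤ i) :
    Subsingleton (Ext (ModuleCat.of O M) (ModuleCat.of O ↥ω) i) := by
  by_cases h2 : 2 ≤ i
  · exact HasInjectiveDimensionLT.subsingleton (ModuleCat.of O ↥ω) 2 i h2 _
  obtain rfl : i = 1 := by omega
  obtain ⟨r, f, c, -, hf, -⟩ := exists_injective_to_free O M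
  have hS := sesShort_shortExact f (LinearMap.range f).mkQ hf (Submodule.mkQ_surjective _) (Submodule.ker_mkQ _).symm
  have : Projective (sesShort f (LinearMap.range f).mkQ (Submodule.ker_mkQ _).symm).X₂ :=
    inferInstanceAs (Projective (ModuleCat.of O (Fin r → O)))
  refine subsingleton_of_forall_eq 0 fun x => ?_
  obtain ⟨y, hy⟩ := Ext.contravariant_sequence_exact₁ hS (ModuleCat.of O ↥ω) (n₀ := 1) x (n₁ := 2) rfl
    (Ext.eq_zero_of_hasInjectiveDimensionLT _ 2 le_rfl)
  rw [← hy, Ext.eq_zero_of_projective y, Ext.comp_zero]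

omit [IsNoetherianRing O] [IsFractionRing O K] in
include hωinj in
theorem ext_dual_free_subsingleton (M : Type u) [AddCommGroup M] [Module O M] [Module.Finite O M]
    [NoZeroSMulDivisors O M] (r i : ℕ) (hi : 1 ≤ i) :
    Subsingleton (Ext (ModuleCat.of O M) (ModuleCat.of O ((Fin r → O) →ₗ[O] ↥ω)) i) := by
  classical
  refine subsingleton_of_forall_eq 0 fun x => ?_
  let p : Fin r → (ModuleCat.of O ((Fin r → O) →ₗ[O] ↥ω) ⟶ ModuleCat.of O ↥ω) := fun a =>
    ModuleCat.ofHom (LinearMap.applyₗ' O (Pi.single a (1 : O)))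
  let q : Fin r → (ModuleCat.of O ↥ω ⟶ ModuleCat.of O ((Fin r → O) →ₗ[O] ↥ω)) := fun a =>
    ModuleCat.ofHom
      { toFun := fun w => (LinearMap.proj a : (Fin r → O) →ₗ[O] O).smulRight w
        map_add' := fun v w => LinearMap.ext fun m => smul_add _ _ _
        map_smul' := fun v w => LinearMap.ext fun m => smul_comm _ v w }
  have hid : (∑ a, p a ≫ q a) = 𝟙 _ := by
    refine ModuleCat.hom_ext (LinearMap.ext fun φ => LinearMap.pi_ext' fun b => LinearMap.ext_ring ?_)
    simp only [ModuleCat.hom_sum, ModuleCat.hom_comp, ModuleCat.hom_id, LinearMap.coe_comp, Function.comp_apply,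
      LinearMap.sum_apply, LinearMap.id_apply, p, q, ModuleCat.hom_ofHom]
    refine (Finset.sum_eq_single b (fun a _ ha => ?_) (by simp)).trans ?_
    · show (Pi.single b (1 : O) : Fin r → O) a • _ = (0 : ↥ω)
      rw [Pi.single_eq_of_ne ha, zero_smul]
    · show (Pi.single b (1 : O) : Fin r → O) b • φ (Pi.single b 1) = φ (Pi.single b 1)
      rw [Pi.single_eq_same, one_smul]
  have h : x.comp (Ext.mk₀ (∑ a, p a ≫ q a)) (add_zero i) = x := by rw [hid, Ext.comp_mk₀_id]
  rw [← h, Ext.mk₀_sum, ← Ext.bilinearComp_apply_apply, map_sum]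
  refine Finset.sum_eq_zero fun a _ => ?_
  rw [Ext.bilinearComp_apply_apply, ← Ext.mk₀_comp_mk₀, ← Ext.comp_assoc_of_second_deg_zero,
    (ext_omega_subsingleton hωinj M i hi).elim (x.comp (Ext.mk₀ (p a)) (add_zero i)) 0, Ext.zero_comp]

omit [IsFractionRing O K] in
include hωfg in
theorem finite_dual (N : Type u) [AddCommGroup N] [Module O N] [Module.Finite O N] :
    Module.Finite O (N →ₗ[O] ↥ω) := by
  have : Module.Finite O ↥ω := Module.Finite.of_fg hωfg
  obtain ⟨s, g, hg⟩ := Module.Finite.exists_fin' O N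
  let ι : (N →ₗ[O] ↥ω) →ₗ[O] (Fin s → ↥ω) :=
    LinearMap.pi fun a => LinearMap.applyₗ' O (g (Pi.single a 1))
  refine Module.Finite.of_injective ι fun φ ψ h => ?_
  refine (LinearMap.cancel_right hg).1 (LinearMap.pi_ext' fun a => LinearMap.ext_ring ?_)
  exact congrFun h a

omit [IsNoetherianRing O] [IsFractionRing O K] in
theorem noZeroSMulDivisors_dual (N : Type u) [AddCommGroup N] [Module O N] [IsFractionRing O K] :
    NoZeroSMulDivisors O (N →ₗ[O] ↥ω) :=
  ⟨fun {c φ} h => or_iff_not_imp_left.2 fun hc => LinearMap.ext fun m => Subtype.ext (by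
    have h' := congrArg Subtype.val (LinearMap.congr_fun h m)
    simp only [LinearMap.smul_apply, Submodule.coe_smul, LinearMap.zero_apply, ZeroMemClass.coe_zero,
      Algebra.smul_def] at h'
    exact (mul_eq_zero.1 h').resolve_left
      (IsFractionRing.to_map_ne_zero_of_mem_nonZeroDivisors (mem_nonZeroDivisors_of_ne_zero hc)))⟩

/-- Flipping the arguments of a bilinear map, as degree zero extensions. -/
def flipExt (M N Y : Type u) [AddCommGroup M] [Module O M] [AddCommGroup N] [Module O N] [AddCommGroup Y] [Module O Y] :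
    Ext (ModuleCat.of O M) (ModuleCat.of O (N →ₗ[O] Y)) 0 ≃+ Ext (ModuleCat.of O N) (ModuleCat.of O (M →ₗ[O] Y)) 0 :=
  Ext.addEquiv₀.trans (AddEquiv.trans
    { toFun := fun f => (ModuleCat.ofHom f.hom.flip : ModuleCat.of O N ⟶ ModuleCat.of O (M →ₗ[O] Y))
      invFun := fun f => (ModuleCat.ofHom f.hom.flip : ModuleCat.of O M ⟶ ModuleCat.of O (N →ₗ[O] Y))
      left_inv := fun _ => rfl
      right_inv := fun _ => rfl
      map_add' := fun _ _ => rfl }
    Ext.addEquiv₀.symm)

omit [IsDomain O] [IsNoetherianRing O] in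
theorem flipExt_mk₀ (M N Y : Type u) [AddCommGroup M] [Module O M] [AddCommGroup N] [Module O N] [AddCommGroup Y]
    [Module O Y] (f : ModuleCat.of O M ⟶ ModuleCat.of O (N →ₗ[O] Y)) :
    flipExt M N Y (Ext.mk₀ f) = Ext.mk₀ (ModuleCat.ofHom f.hom.flip) := by
  show Ext.addEquiv₀.symm (ModuleCat.ofHom (Ext.addEquiv₀ (Ext.mk₀ f)).hom.flip) = _
  rw [← Ext.addEquiv₀_symm_apply f, AddEquiv.apply_symm_apply]
  exact Ext.addEquiv₀_symm_apply _

include hωfg hωinj in
/-- Duality is symmetric in the extension groups. -/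
theorem ext_dual_symm : ∀ (i : ℕ) (M N : Type u) [AddCommGroup M] [Module O M] [Module.Finite O M]
    [NoZeroSMulDivisors O M] [AddCommGroup N] [Module O N] [Module.Finite O N] [NoZeroSMulDivisors O N],
    Nonempty (Ext (ModuleCat.of O M) (ModuleCat.of O (N →ₗ[O] ↥ω)) i ≃+
      Ext (ModuleCat.of O N) (ModuleCat.of O (M →ₗ[O] ↥ω)) i) := by
  intro i
  induction i with
  | zero =>
    intro M N _ _ _ _ _ _ _ _
    exact ⟨flipExt M N ↥ω⟩
  | succ i ih =>
    intro M N _ _ _ _ _ _ _ _
    classical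
    obtain ⟨r, g, hg⟩ := Module.Finite.exists_fin' O N
    let L := LinearMap.ker g
    have : Module.Finite O L := Module.Finite.of_fg (IsNoetherian.noetherian L)
    have : NoZeroSMulDivisors O L := ⟨fun {c x} h => (smul_eq_zero.1 h)⟩
    have hS := sesShort_shortExact L.subtype g L.injective_subtype hg (Submodule.range_subtype L)
    have : Projective (sesShort L.subtype g (Submodule.range_subtype L)).X₂ :=
      inferInstanceAs (Projective (ModuleCat.of O (Fin r → O)))
    -- the dual sequence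
    let gd : (N →ₗ[O] ↥ω) →ₗ[O] ((Fin r → O) →ₗ[O] ↥ω) := LinearMap.lcomp O ↥ω g
    let rd : ((Fin r → O) →ₗ[O] ↥ω) →ₗ[O] (L →ₗ[O] ↥ω) := LinearMap.lcomp O ↥ω L.subtype
    have hgd : Function.Injective gd := fun φ ψ h => (LinearMap.cancel_right hg).1 h
    have hrd : Function.Surjective rd := fun φ => by
      obtain ⟨y, hy⟩ := Ext.contravariant_sequence_exact₁ hS (ModuleCat.of O ↥ω) (n₀ := 0)
        (Ext.mk₀ (ModuleCat.ofHom φ)) (n₁ := 1) rfl ((ext_omega_subsingleton hωinj N 1 le_rfl).elim _ _)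
      obtain ⟨h, rfl⟩ := (Ext.mk₀_bijective _ _).2 y
      rw [Ext.mk₀_comp_mk₀] at hy
      exact ⟨h.hom, congrArg ModuleCat.Hom.hom ((Ext.mk₀_bijective _ _).1 hy)⟩
    have hexd : LinearMap.range gd = LinearMap.ker rd := by
      ext φ
      constructor
      · rintro ⟨ψ, rfl⟩
        exact LinearMap.ext fun x => by
          show ψ (g x) = 0
          rw [show g x = 0 from x.2, map_zero]
      · intro hφ
        have hle : LinearMap.ker g ≤ LinearMap.ker φ := fun x hx => LinearMap.congr_fun hφ ⟨x, hx⟩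
        refine ⟨(LinearMap.ker g).liftQ φ hle ∘ₗ (g.quotKerEquivOfSurjective hg).symm.toLinearMap,
          LinearMap.ext fun x => ?_⟩
        show (LinearMap.ker g).liftQ φ hle ((g.quotKerEquivOfSurjective hg).symm (g x)) = φ x
        rw [show (g.quotKerEquivOfSurjective hg).symm (g x) = Submodule.Quotient.mk x from
          (LinearEquiv.symm_apply_eq _).2 rfl, Submodule.liftQ_apply]
    have hSd := sesShort_shortExact (R := O) (A := N →ₗ[O] ↥ω) (B := (Fin r → O) →ₗ[O] ↥ω) (C := L →ₗ[O] ↥ω) gd rd hgd hrd hexd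
    -- the two connecting maps
    let δ₁ : Ext (ModuleCat.of O M) (ModuleCat.of O (L →ₗ[O] ↥ω)) i →+
        Ext (ModuleCat.of O M) (ModuleCat.of O (N →ₗ[O] ↥ω)) (i + 1) :=
      AddMonoidHom.mk' (fun x => x.comp hSd.extClass rfl) fun x y => Ext.add_comp x y _ _
    let δ₂ : Ext (ModuleCat.of O L) (ModuleCat.of O (M →ₗ[O] ↥ω)) i →+
        Ext (ModuleCat.of O N) (ModuleCat.of O (M →ₗ[O] ↥ω)) (i + 1) :=
      AddMonoidHom.mk' (fun x => hS.extClass.comp x (Nat.add_comm 1 i)) fun x y => Ext.comp_add _ x y _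
    have h₁ : Function.Surjective δ₁ := fun x => Ext.covariant_sequence_exact₁ (ModuleCat.of O M) hSd x
      ((ext_dual_free_subsingleton hωinj M r (i + 1) (Nat.le_add_left 1 i)).elim _ _) rfl
    have h₂ : Function.Surjective δ₂ := fun x => Ext.contravariant_sequence_exact₃ hS
      (ModuleCat.of O (M →ₗ[O] ↥ω)) x (Ext.eq_zero_of_projective _) (n₀ := i) (Nat.add_comm 1 i)
    rcases Nat.eq_zero_or_pos i with rfl | hi
    · let Φ := flipExt (O := O) M L ↥ω
      have hΦ : ∀ f, Φ (Ext.mk₀ f) = Ext.mk₀ (ModuleCat.ofHom f.hom.flip) := flipExt_mk₀ M L ↥ω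
      have hker : δ₁.ker = (δ₂.comp Φ.toAddMonoidHom).ker := by
        ext x
        obtain ⟨f, rfl⟩ := (Ext.mk₀_bijective _ _).2 x
        rw [AddMonoidHom.mem_ker, AddMonoidHom.mem_ker]
        show (Ext.mk₀ f).comp hSd.extClass rfl = 0 ↔ hS.extClass.comp (Φ (Ext.mk₀ f)) (Nat.add_comm 1 0) = 0
        rw [hΦ]
        constructor
        · intro h
          obtain ⟨y, hy⟩ := Ext.covariant_sequence_exact₃ (ModuleCat.of O M) hSd _ rfl h
          obtain ⟨h', rfl⟩ := (Ext.mk₀_bijective _ _).2 y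
          rw [Ext.mk₀_comp_mk₀] at hy
          have hf := (Ext.mk₀_bijective _ _).1 hy
          subst hf
          let F' : (sesShort L.subtype g (Submodule.range_subtype L)).X₂ ⟶ ModuleCat.of O (M →ₗ[O] ↥ω) :=
            ModuleCat.ofHom h'.hom.flip
          show hS.extClass.comp (Ext.mk₀ ((sesShort L.subtype g (Submodule.range_subtype L)).f ≫ F')) (Nat.add_comm 1 0) = 0
          rw [← Ext.mk₀_comp_mk₀, ShortComplex.ShortExact.extClass_comp_assoc]
        · intro h
          obtain ⟨y, hy⟩ := Ext.contravariant_sequence_exact₁ hS (ModuleCat.of O (M →ₗ[O] ↥ω)) _ (Nat.add_comm 1 0) h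
          obtain ⟨h', rfl⟩ := (Ext.mk₀_bijective _ _).2 y
          rw [Ext.mk₀_comp_mk₀] at hy
          have hf := congrArg ModuleCat.Hom.hom ((Ext.mk₀_bijective _ _).1 hy)
          let F' : ModuleCat.of O M ⟶ (sesShort (R := O) (A := N →ₗ[O] ↥ω) (B := (Fin r → O) →ₗ[O] ↥ω)
              (C := L →ₗ[O] ↥ω) gd rd hexd).X₂ := ModuleCat.ofHom h'.hom.flip
          have hf' : f = F' ≫ (sesShort (R := O) (A := N →ₗ[O] ↥ω) (B := (Fin r → O) →ₗ[O] ↥ω)
              (C := L →ₗ[O] ↥ω) gd rd hexd).g := ModuleCat.hom_ext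
            (LinearMap.ext fun m => LinearMap.ext fun l => (LinearMap.congr_fun (LinearMap.congr_fun hf l) m).symm)
          rw [hf',
            ← Ext.mk₀_comp_mk₀, Ext.comp_assoc_of_second_deg_zero, ShortComplex.ShortExact.comp_extClass,
            Ext.comp_zero]
      exact ⟨(QuotientAddGroup.quotientKerEquivOfSurjective δ₁ h₁).symm.trans
        ((QuotientAddGroup.quotientAddEquivOfEq hker).trans
          (QuotientAddGroup.quotientKerEquivOfSurjective (δ₂.comp Φ.toAddMonoidHom) (h₂.comp Φ.surjective)))⟩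
    · have i₁ : Function.Injective δ₁ := (injective_iff_map_eq_zero _).2 fun x hx => by
        obtain ⟨y, hy⟩ := Ext.covariant_sequence_exact₃ (ModuleCat.of O M) hSd x rfl hx
        rw [← hy, (ext_dual_free_subsingleton hωinj M r i hi).elim y 0, Ext.zero_comp]
      have i₂ : Function.Injective δ₂ := (injective_iff_map_eq_zero _).2 fun x hx => by
        obtain ⟨y, hy⟩ := Ext.contravariant_sequence_exact₁ hS (ModuleCat.of O (M →ₗ[O] ↥ω)) x (Nat.add_comm 1 i) hx
        obtain ⟨j, rfl⟩ : ∃ j, i = j + 1 := ⟨i - 1, by omega⟩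
        rw [← hy, Ext.eq_zero_of_projective y, Ext.comp_zero]
      obtain ⟨e⟩ := ih M L
      exact ⟨(AddEquiv.ofBijective δ₁ ⟨i₁, h₁⟩).symm.trans (e.trans (AddEquiv.ofBijective δ₂ ⟨i₂, h₂⟩))⟩

end Groth.Agent.TFCurv38
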