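import Groth.Agent.TFCurv38.DimOne
import Groth.Agent.TFCurv38.Embed
import Mathlib.RingTheory.DedekindDomain.PID
import Mathlib.RingTheory.Localization.Integral
import Mathlib.RingTheory.Ideal.GoingUp
import Mathlib.RingTheory.Ideal.MinimalPrime.Noetherian
import Mathlib.LinearAlgebra.FreeModule.PID
import Mathlib.LinearAlgebra.Dimension.Constructions
import Mathlib.RingTheory.Flat.Localization
import Mathlib.LinearAlgebra.TensorProduct.Pi
import Mathlib.LinearAlgebra.Matrix.Basis
import Mathlib.FieldTheory.IsAlgClosed.Basic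

/-! A finite torsion-free module between `O^n` and the power of the normalisation. -/

set_option autoImplicit false

noncomputable section

namespace Groth.Agent.TFCurv38

open TensorProduct

universe u

variable {O : Type u} [CommRing O] [IsDomain O] [IsLocalRing O]

omit [IsDomain O] in
theorem exists_notMem_of_infinite [Infinite (IsLocalRing.ResidueField O)] {M : Type u} [AddCommGroup M] [Module O M]
    {ι : Type*} (s : Finset ι) (W : ι → Submodule O M) (hW : ∀ i ∈ s, W i ≠ ⊤) :
    ∃ x : M, ∀ i ∈ s, x ∉ W i := by
  classical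
  induction s using Finset.induction with
  | empty => exact ⟨0, fun i hi => absurd hi (Finset.notMem_empty i)⟩
  | insert j s hj ih =>
    obtain ⟨x, hx⟩ := ih fun i hi => hW i (Finset.mem_insert_of_mem hi)
    by_cases hxj : x ∈ W j
    · obtain ⟨y, hy⟩ := SetLike.exists_not_mem_of_ne_top (W j) (hW j (Finset.mem_insert_self j s)) rfl
      obtain ⟨r, hr⟩ := (IsLocalRing.residue_surjective (R := O)).hasRightInverse
      have hu : ∀ a b : IsLocalRing.ResidueField O, a ≠ b → IsUnit (r a - r b) := fun a b hab => by
        rw [← IsLocalRing.notMem_maximalIdeal, ← IsLocalRing.residue_eq_zero_iff, map_sub, hr, hr, sub_eq_zero]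
        exact hab
      let bad : ι → Set (IsLocalRing.ResidueField O) := fun i => {a | x + r a • y ∈ W i}
      have hbad : ∀ i ∈ insert j s, (bad i).Subsingleton := by
        intro i hi a ha b hb
        by_contra hab
        have hy' : y ∈ W i := by
          have h := (W i).sub_mem ha hb
          rw [add_sub_add_left_eq_sub, ← sub_smul] at h
          exact (Submodule.smul_mem_iff_of_isUnit _ (hu a b hab)).1 h
        rcases Finset.mem_insert.1 hi with rfl | hi
        · exact hy hy'
        · exact hx i hi (by simpa using (W i).sub_mem ha ((W i).smul_mem (r a) hy'))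
      have hfin : (⋃ i ∈ (↑(insert j s) : Set ι), bad i).Finite :=
        Set.Finite.biUnion (Finset.finite_toSet _) fun i hi => (hbad i hi).finite
      obtain ⟨a, ha⟩ := hfin.exists_notMem
      exact ⟨x + r a • y, fun i hi h => ha (Set.mem_biUnion hi h)⟩
    · refine ⟨x, fun i hi => ?_⟩
      rcases Finset.mem_insert.1 hi with rfl | hi
      · exact hxj
      · exact hx i hi

omit [IsDomain O] in
theorem exists_basis_of_generators [Infinite (IsLocalRing.ResidueField O)] {S : Type u} [CommRing S] [Algebra O S]
    (hS : {P : Ideal S | P.IsMaximal}.Finite) {L : Type u} [AddCommGroup L] [Module O L] [Module S L]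
    [IsScalarTower O S L] {n : ℕ} (b : Module.Basis (Fin n) S L) (M : Submodule O L)
    (hM : Submodule.span S (M : Set L) = ⊤) :
    ∃ e : Fin n → L, (∀ j, e j ∈ M) ∧ ∃ B : Module.Basis (Fin n) S L, ⇑B = e := by
  classical
  let ρ : ∀ P : Ideal S, L →ₗ[S] (Fin n → S ⧸ P) := fun P =>
    LinearMap.pi fun i => (Algebra.linearMap S (S ⧸ P)) ∘ₗ (b.coord i)
  have hρ : ∀ P, Function.Surjective (ρ P) := fun P v => by
    choose w hw using fun i => Ideal.Quotient.mk_surjective (v i)
    refine ⟨b.equivFun.symm w, funext fun i => ?_⟩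
    show Ideal.Quotient.mk P (b.repr (b.equivFun.symm w) i) = v i
    rw [← b.equivFun_apply, LinearEquiv.apply_symm_apply, hw]
  have hstep : ∀ j : ℕ, j ≤ n → ∃ e : Fin j → L, (∀ a, e a ∈ M) ∧
      ∀ P : Ideal S, P.IsMaximal → LinearIndependent (S ⧸ P) (fun a => ρ P (e a)) := by
    intro j
    induction j with
    | zero => exact fun _ => ⟨Fin.elim0, fun a => a.elim0, fun P _ => linearIndependent_empty_type⟩
    | succ j ih =>
      intro hj
      obtain ⟨e, he, hli⟩ := ih (by omega)
      let W : Ideal S → Submodule O M := fun P =>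
        (((Submodule.span (S ⧸ P) (Set.range fun a => ρ P (e a))).restrictScalars S).comap (ρ P)).restrictScalars O
          |>.comap M.subtype
      have hW : ∀ P ∈ hS.toFinset, W P ≠ ⊤ := by
        intro P hP htop
        have hPm : P.IsMaximal := hS.mem_toFinset.1 hP
        let _ := Ideal.Quotient.field P
        have hle : Submodule.span S (M : Set L) ≤
            ((Submodule.span (S ⧸ P) (Set.range fun a => ρ P (e a))).restrictScalars S).comap (ρ P) := by
          refine Submodule.span_le.2 fun x hx => ?_
          exact (show (⟨x, hx⟩ : M) ∈ W P by rw [htop]; trivial)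
        rw [hM] at hle
        have hsp : Submodule.span (S ⧸ P) (Set.range fun a => ρ P (e a)) = ⊤ := by
          refine Submodule.eq_top_iff'.2 fun v => ?_
          obtain ⟨x, rfl⟩ := hρ P v
          exact hle Submodule.mem_top
        have := finrank_range_le_card (R := S ⧸ P) (fun a => ρ P (e a))
        rw [Set.finrank, hsp, finrank_top, Module.finrank_fintype_fun_eq_card, Fintype.card_fin,
          Fintype.card_fin] at this
        omega
      obtain ⟨⟨x, hx⟩, hxW⟩ := exists_notMem_of_infinite hS.toFinset W hW
      refine ⟨Fin.snoc e x, fun a => ?_, fun P hP => ?_⟩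
      · refine Fin.lastCases ?_ (fun a => ?_) a
        · simpa using hx
        · simpa using he a
      · let _ := Ideal.Quotient.field P
        have hc : (fun a => ρ P ((Fin.snoc e x : Fin (j + 1) → L) a)) =
            Fin.snoc (fun a => ρ P (e a)) (ρ P x) := Fin.comp_snoc (ρ P) e x
        rw [hc]
        exact linearIndependent_finSnoc.2 ⟨hli P hP, fun h => hxW P (hS.mem_toFinset.2 hP) h⟩
  obtain ⟨e, he, hli⟩ := hstep n le_rfl
  refine ⟨e, he, ?_⟩
  have hdet : IsUnit (b.det e) := by
    by_contra h
    obtain ⟨P, hP, hmem⟩ := exists_max_ideal_of_mem_nonunits h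
    let _ := Ideal.Quotient.field P
    let Ebar : Matrix (Fin n) (Fin n) (S ⧸ P) := (Ideal.Quotient.mk P).mapMatrix (b.toMatrix e)
    have hdet0 : Ebar.det = 0 := by
      rw [← RingHom.map_det, ← Module.Basis.det_apply]
      exact Ideal.Quotient.eq_zero_iff_mem.2 hmem
    have hli' := hli P hP
    have hcols : (fun a => ρ P (e a)) = Ebar.col := funext fun a => funext fun i => rfl
    rw [hcols, Matrix.linearIndependent_cols_iff_isUnit, Matrix.isUnit_iff_isUnit_det, hdet0] at hli'
    exact not_isUnit_zero hli'
  obtain ⟨h1, h2⟩ := (Module.Basis.is_basis_iff_det b).2 hdet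
  exact ⟨Module.Basis.mk h1 h2.ge, Module.Basis.coe_mk _ _⟩

section Normalisation

variable (hdim : ringKrullDim O = 1) (K : Type u) [Field K] [Algebra O K] [IsFractionRing O K]
  (hfin : Module.Finite O ↥(integralClosure O K))

include hdim in
theorem dimensionLEOne_of_dim_eq_one : Ring.DimensionLEOne O := by
  have h : Ring.KrullDimLE 1 O := Ring.krullDimLE_iff.2 hdim.le
  exact ⟨fun hp hP => Ring.krullDimLE_one_iff_of_noZeroDivisors.1 h _ hp hP⟩

include hdim hfin in
theorem isDedekind_normalisation [IsNoetherianRing O] :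
    IsDedekindDomain ↥(integralClosure O K) ∧ {P : Ideal ↥(integralClosure O K) | P.IsMaximal}.Finite := by
  classical
  have := dimensionLEOne_of_dim_eq_one hdim
  have : IsFractionRing ↥(integralClosure O K) K :=
    integralClosure.isFractionRing_of_finite_extension (A := O) (K := K) (L := K)
  have : IsNoetherianRing ↥(integralClosure O K) := IsNoetherianRing.of_finite O _
  have : IsIntegrallyClosed ↥(integralClosure O K) :=
    integralClosure.isIntegrallyClosedOfFiniteExtension (R := O) K (L := K)
  have : IsDedekindRing ↥(integralClosure O K) := { }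
  have : IsDedekindDomain ↥(integralClosure O K) := { }
  refine ⟨this, ?_⟩
  obtain ⟨ϖ, hϖm, hϖ⟩ := Submodule.exists_mem_ne_zero_of_ne_bot (maximalIdeal_ne_bot hdim)
  let J : Ideal ↥(integralClosure O K) := Ideal.span {algebraMap O _ ϖ}
  refine (J.finite_minimalPrimes_of_isNoetherianRing).subset fun P (hP : P.IsMaximal) => ?_
  have hPϖ : algebraMap O _ ϖ ∈ P := by
    have h : (P.comap (algebraMap O ↥(integralClosure O K))).IsMaximal :=
      Ideal.isMaximal_comap_of_isIntegral_of_isMaximal P
    have h' : ϖ ∈ P.comap (algebraMap O ↥(integralClosure O K)) := (IsLocalRing.eq_maximalIdeal h).symm ▸ hϖm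
    exact h'
  refine ⟨⟨hP.isPrime, (Ideal.span_singleton_le_iff_mem _).2 hPϖ⟩, fun Q hQ hQP => ?_⟩
  have hQ0 : Q ≠ ⊥ := fun h => by
    have h' := hQ.2 (Ideal.mem_span_singleton_self (algebraMap O ↥(integralClosure O K) ϖ))
    rw [h, Ideal.mem_bot] at h'
    exact hϖ (IsFractionRing.injective O K (by simpa using congrArg Subtype.val h'))
  exact ((hQ.1.isMaximal hQ0).eq_of_le hP.ne_top hQP).ge

theorem finrank_baseChange_eq {M : Type u} [AddCommGroup M] [Module O M] {r : ℕ} (f : M →ₗ[O] (Fin r → O))
    (hf : Function.Injective f) {c : O} (hc : c ≠ 0) (hcf : ∀ y : (Fin r → O) ⧸ LinearMap.range f, c • y = 0) :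
    Module.finrank K (K ⊗[O] M) = r := by
  classical
  have : Module.Flat O K := IsLocalization.flat K (nonZeroDivisors O)
  have hbij : Function.Bijective (f.baseChange K) := by
    refine ⟨Module.Flat.lTensor_preserves_injective_linearMap f hf, fun y => ?_⟩
    induction y with
    | zero => exact ⟨0, map_zero _⟩
    | add x y hx hy =>
      obtain ⟨a, rfl⟩ := hx
      obtain ⟨b, rfl⟩ := hy
      exact ⟨a + b, map_add _ _ _⟩
    | tmul a v =>
      obtain ⟨x, hx⟩ : c • v ∈ LinearMap.range f := by
        rw [← Submodule.Quotient.mk_eq_zero, Submodule.Quotient.mk_smul, hcf]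
      have hc' : algebraMap O K c ≠ 0 := IsFractionRing.to_map_ne_zero_of_mem_nonZeroDivisors (mem_nonZeroDivisors_of_ne_zero hc)
      refine ⟨(a / algebraMap O K c) ⊗ₜ[O] x, ?_⟩
      rw [LinearMap.baseChange_tmul, hx, TensorProduct.tmul_smul, TensorProduct.smul_tmul', Algebra.smul_def,
        mul_div_cancel₀ _ hc']
  rw [(LinearEquiv.ofBijective _ hbij).finrank_eq, (TensorProduct.piScalarRight O K K (Fin r)).finrank_eq,
    Module.finrank_fintype_fun_eq_card, Fintype.card_fin]

include hdim hfin in
theorem exists_sandwich [IsNoetherianRing O] [Infinite (IsLocalRing.ResidueField O)] (M : Type u) [AddCommGroup M]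
    [Module O M] [Module.Finite O M] [NoZeroSMulDivisors O M] (n : ℕ)
    (hn : Module.finrank K (K ⊗[O] M) = n) :
    ∃ M' : Submodule O (Fin n → K), Submodule.pi Set.univ (fun _ : Fin n => (1 : Submodule O K)) ≤ M' ∧
      M' ≤ Submodule.pi Set.univ (fun _ : Fin n => (Subalgebra.toSubmodule (integralClosure O K))) ∧
      Nonempty (M ≃ₗ[O] M') := by
  classical
  obtain ⟨r, f, c, hc, hf, hcf⟩ := exists_injective_to_free O M
  obtain rfl : n = r := hn.symm.trans (finrank_baseChange_eq K f hf hc hcf)
  obtain ⟨hded, hmax⟩ := isDedekind_normalisation hdim K hfin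
  have hc' : algebraMap O K c ≠ 0 := IsFractionRing.to_map_ne_zero_of_mem_nonZeroDivisors (mem_nonZeroDivisors_of_ne_zero hc)
  have : IsPrincipalIdealRing ↥(integralClosure O K) := IsPrincipalIdealRing.of_finite_maximals hmax
  have : IsFractionRing ↥(integralClosure O K) K :=
    integralClosure.isFractionRing_of_finite_extension (A := O) (K := K) (L := K)
  let j : M →ₗ[O] (Fin n → K) := (Algebra.linearMap O K).compLeft (Fin n) ∘ₗ f
  have hj : Function.Injective j := ((IsFractionRing.injective O K).comp_left).comp hf
  let L : Submodule ↥(integralClosure O K) (Fin n → K) := Submodule.span _ (Set.range j)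
  have hstd : ∀ a, algebraMap O K c • (Pi.single a 1 : Fin n → K) ∈ Set.range j := fun a => by
    obtain ⟨x, hx⟩ : c • (Pi.single a 1 : Fin n → O) ∈ LinearMap.range f := by
      rw [← Submodule.Quotient.mk_eq_zero, Submodule.Quotient.mk_smul, hcf]
    refine ⟨x, funext fun i => ?_⟩
    show algebraMap O K (f x i) = _
    rw [hx]
    simp [Pi.single_apply, apply_ite (algebraMap O K)]
  have hLfg : Module.Finite ↥(integralClosure O K) L := by
    obtain ⟨t, ht⟩ := (Module.Finite.fg_top : (⊤ : Submodule O M).FG)
    refine Module.Finite.of_fg ⟨t.image j, le_antisymm (Submodule.span_mono (by simp [Set.image_subset_iff])) ?_⟩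
    refine Submodule.span_le.2 ?_
    rintro _ ⟨x, rfl⟩
    have hx : j x ∈ (Submodule.span O (t : Set M)).map j := Submodule.mem_map_of_mem (ht ▸ Submodule.mem_top)
    rw [Submodule.map_span] at hx
    rw [Finset.coe_image]
    exact Submodule.span_le_restrictScalars O ↥(integralClosure O K) _ hx
  obtain ⟨m, b⟩ : Σ m, Module.Basis (Fin m) ↥(integralClosure O K) L := Module.basisOfFiniteTypeTorsionFree'
  -- the basis of `L` is a basis of `K^n`
  have hli : LinearIndependent K (fun i => (b i : Fin n → K)) :=
    (LinearIndependent.iff_fractionRing (R := ↥(integralClosure O K)) (K := K)).1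
      (b.linearIndependent.map' L.subtype L.ker_subtype)
  have hspan : Submodule.span K (Set.range fun i => (b i : Fin n → K)) = ⊤ := by
    refine eq_top_iff.2 ?_
    rw [← (Pi.basisFun K (Fin n)).span_eq, Submodule.span_le]
    rintro _ ⟨a, rfl⟩
    have h1 : algebraMap O K c • (Pi.single a 1 : Fin n → K) ∈
        Submodule.span K (Set.range fun i => (b i : Fin n → K)) := by
      refine Submodule.span_le_restrictScalars ↥(integralClosure O K) K _ ?_
      have h2 : (⟨_, Submodule.subset_span (hstd a)⟩ : L) ∈ Submodule.span _ (Set.range b) := b.span_eq ▸ Submodule.mem_top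
      have h3 := Submodule.mem_map_of_mem (f := L.subtype) h2
      rwa [Submodule.map_span, ← Set.range_comp] at h3
    rw [Pi.basisFun_apply]
    exact (Submodule.smul_mem_iff _ hc').1 h1
  obtain rfl : m = n := by
    have := Module.finrank_eq_card_basis (Module.Basis.mk hli hspan.ge)
    rw [Module.finrank_fintype_fun_eq_card, Fintype.card_fin, Fintype.card_fin] at this
    exact this.symm
  let M0 : Submodule O L := (LinearMap.range j).comap (L.subtype.restrictScalars O)
  have hM0 : Submodule.span ↥(integralClosure O K) (M0 : Set L) = ⊤ := by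
    refine Submodule.map_injective_of_injective (f := L.subtype) L.injective_subtype ?_
    rw [Submodule.map_span, Submodule.map_subtype_top]
    refine le_antisymm (Submodule.span_le.2 ?_) (Submodule.span_le.2 ?_)
    · rintro _ ⟨x, -, rfl⟩
      exact x.2
    · rintro _ ⟨x, rfl⟩
      exact Submodule.subset_span ⟨⟨j x, Submodule.subset_span ⟨x, rfl⟩⟩, ⟨x, rfl⟩, rfl⟩
  obtain ⟨e, he, B, hB⟩ := exists_basis_of_generators hmax b M0 hM0
  have hliB : LinearIndependent K (fun i => (e i : Fin m → K)) :=
    (LinearIndependent.iff_fractionRing (R := ↥(integralClosure O K)) (K := K)).1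
      ((hB ▸ B.linearIndependent).map' L.subtype L.ker_subtype)
  have hspanB : Submodule.span K (Set.range fun i => (e i : Fin m → K)) = ⊤ :=
    hliB.span_eq_top_of_card_eq_finrank' (by simp)
  obtain ⟨BK, hBK⟩ : ∃ BK : Module.Basis (Fin m) K (Fin m → K), ∀ i, BK i = (e i : Fin m → K) :=
    ⟨Module.Basis.mk hliB hspanB.ge, fun i => Module.Basis.mk_apply hliB hspanB.ge i⟩
  let Φ : (Fin m → K) ≃ₗ[K] (Fin m → K) := BK.equivFun
  let ψ : M →ₗ[O] (Fin m → K) := (Φ : (Fin m → K) →ₗ[K] (Fin m → K)).restrictScalars O ∘ₗ j
  refine ⟨LinearMap.range ψ, ?_, ?_, ⟨LinearEquiv.ofInjective ψ (Φ.injective.comp hj)⟩⟩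
  · intro x hx
    have hx' : ∀ i, ∃ a : O, algebraMap O K a = x i := fun i => by
      simpa [Submodule.one_eq_range] using hx i trivial
    choose a ha using hx'
    choose y hy using fun i => he i
    refine ⟨∑ i, a i • y i, ?_⟩
    show Φ (j (∑ i, a i • y i)) = x
    simp only [map_sum, map_smul]
    funext l
    simp only [Finset.sum_apply]
    rw [Finset.sum_eq_single l]
    · rw [← IsScalarTower.algebraMap_smul K (a l), map_smul,
        show j (y l) = BK l from (hy l).trans (hBK l).symm]
      simp [Φ, ha]
    · intro i _ hi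
      rw [← IsScalarTower.algebraMap_smul K (a i), map_smul,
        show j (y i) = BK i from (hy i).trans (hBK i).symm]
      simp [Φ, Finsupp.single_apply, hi]
    · simp
  · rintro _ ⟨x, rfl⟩ i -
    let l : L := ⟨j x, Submodule.subset_span ⟨x, rfl⟩⟩
    have hl := congrArg L.subtype (B.sum_repr l)
    simp only [map_sum, map_smul, Submodule.subtype_apply, hB] at hl
    show Φ (j x) i ∈ integralClosure O K
    rw [show Φ (j x) = fun i => ((B.repr l i : ↥(integralClosure O K)) : K) from ?_]
    · exact (B.repr l i).2
    · rw [show j x = (l : Fin m → K) from rfl, ← hl, map_sum]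
      funext q
      simp only [Finset.sum_apply]
      rw [Finset.sum_eq_single q]
      · rw [← IsScalarTower.algebraMap_smul K (B.repr l q), map_smul,
          show (e q : Fin m → K) = BK q from (hBK q).symm]
        simp [Φ]
      · intro p _ hp
        rw [← IsScalarTower.algebraMap_smul K (B.repr l p), map_smul,
          show (e p : Fin m → K) = BK p from (hBK p).symm]
        simp [Φ, Finsupp.single_apply, hp]
      · simp

end Normalisation

end Groth.Agent.TFCurv38
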