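import Groth.Agent.TFCurv38.Semilocal
import Mathlib.RingTheory.Length
import Mathlib.Algebra.Module.SpanRankOperations
import Mathlib.LinearAlgebra.Quotient.Pi
import Mathlib.RingTheory.Artinian.Ring
import Mathlib.RingTheory.HopkinsLevitzki

/-! Generators of torsion-free modules and the multiplicity. -/

set_option autoImplicit false

noncomputable section

namespace Groth.Agent.TFCurv38

open TensorProduct

universe u

theorem isFiniteLength_of_smul_eq_zero {O : Type u} [CommRing O] [IsDomain O] [IsNoetherianRing O] [IsLocalRing O]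
    (hdim : ringKrullDim O = 1) {T : Type u} [AddCommGroup T] [Module O T] [Module.Finite O T] {c : O} (hc : c ≠ 0)
    (h : ∀ t : T, c • t = 0) : IsFiniteLength O T := by
  have := dimensionLEOne_of_dim_eq_one hdim
  let I : Ideal O := Ideal.span {c}
  have hI : I ≠ ⊥ := by simpa [I] using hc
  have hk : Ring.KrullDimLE 0 (O ⧸ I) := Ring.krullDimLE_zero_iff.2 fun P hP => by
    have h1 : (P.comap (Ideal.Quotient.mk I)).IsMaximal := by
      refine (Ideal.IsPrime.comap _).isMaximal fun hbot => hI ?_
      rw [eq_bot_iff, ← hbot]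
      exact fun x hx => by simp [Ideal.mem_comap, Ideal.Quotient.eq_zero_iff_mem.2 hx]
    rw [← Ideal.map_comap_of_surjective _ Ideal.Quotient.mk_surjective P]
    exact Ideal.IsMaximal.map_of_surjective_of_ker_le Ideal.Quotient.mk_surjective
      (by rw [Ideal.mk_ker]; exact fun x hx => by simp [Ideal.mem_comap, Ideal.Quotient.eq_zero_iff_mem.2 hx])
  have : IsArtinianRing (O ⧸ I) := isArtinianRing_iff_isNoetherianRing_krullDimLE_zero.2 ⟨inferInstance, hk⟩
  have htors : Module.IsTorsionBySet O T (I : Set O) := (Module.isTorsionBySet_span_singleton_iff c).2 h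
  letI := htors.module
  haveI : IsScalarTower O (O ⧸ I) T := Module.IsTorsionBySet.isScalarTower htors
  haveI : Module.Finite (O ⧸ I) T := Module.Finite.of_restrictScalars_finite O (O ⧸ I) T
  haveI : IsArtinian (O ⧸ I) T := isArtinian_of_fg_of_artinian'
  have : IsArtinian O T := isArtinian_of_surjective_algebraMap (R := O ⧸ I) (S := O) Ideal.Quotient.mk_surjective
  exact isFiniteLength_iff_isNoetherian_isArtinian.2 ⟨inferInstance, this⟩

variable {R : Type u} [CommRing R]

/-- If `M ⊆ L` has a cokernel of finite length, then `M/xM` and `L/xL` have the same length. -/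
theorem length_quotient_smul_eq {M L : Type u} [AddCommGroup M] [Module R M] [AddCommGroup L] [Module R L]
    (ι : M →ₗ[R] L) (hι : Function.Injective ι) (hfin : IsFiniteLength R (L ⧸ LinearMap.range ι)) (x : R)
    (hx : Function.Injective fun l : L => x • l) :
    Module.length R (M ⧸ LinearMap.range (x • LinearMap.id : M →ₗ[R] M)) =
      Module.length R (L ⧸ LinearMap.range (x • LinearMap.id : L →ₗ[R] L)) := by
  let A := LinearMap.range (x • ι)
  let B := LinearMap.range (x • LinearMap.id : M →ₗ[R] M)
  let C := LinearMap.range (x • LinearMap.id : L →ₗ[R] L)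
  let f1 : M ⧸ B →ₗ[R] L ⧸ A := B.mapQ A ι (by
    rintro _ ⟨m, rfl⟩
    exact ⟨m, by simp⟩)
  have hAι : A ≤ LinearMap.range ι := by
    rintro _ ⟨m, rfl⟩
    exact ⟨x • m, by simp⟩
  let g1 : L ⧸ A →ₗ[R] L ⧸ LinearMap.range ι := Submodule.factor hAι
  let f2 : L ⧸ LinearMap.range ι →ₗ[R] L ⧸ A := (LinearMap.range ι).mapQ A (x • LinearMap.id) (by
    rintro _ ⟨m, rfl⟩
    exact ⟨m, by simp⟩)
  have hAC : A ≤ C := by
    rintro _ ⟨m, rfl⟩
    exact ⟨ι m, by simp⟩
  let g2 : L ⧸ A →ₗ[R] L ⧸ C := Submodule.factor hAC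
  have e1 := Module.length_eq_add_of_exact f1 g1 ?_ (Submodule.factor_surjective hAι) ?_
  have e2 := Module.length_eq_add_of_exact f2 g2 ?_ (Submodule.factor_surjective hAC) ?_
  · rw [e1, add_comm] at e2
    exact (ENat.addLECancellable_of_ne_top (Module.length_ne_top_iff.2 hfin)).inj.1 e2
  · refine (injective_iff_map_eq_zero _).2 fun q hq => ?_
    obtain ⟨l, rfl⟩ := Submodule.Quotient.mk_surjective _ q
    obtain ⟨m, hm⟩ := (Submodule.Quotient.mk_eq_zero A).1 hq
    refine (Submodule.Quotient.mk_eq_zero _).2 ⟨m, hx ?_⟩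
    simpa using hm
  · intro q
    obtain ⟨l, rfl⟩ := Submodule.Quotient.mk_surjective _ q
    constructor
    · intro h
      obtain ⟨l', hl'⟩ := (Submodule.Quotient.mk_eq_zero C).1 h
      exact ⟨Submodule.Quotient.mk l', congrArg Submodule.Quotient.mk hl'⟩
    · rintro ⟨p, hp⟩
      obtain ⟨l', rfl⟩ := Submodule.Quotient.mk_surjective _ p
      rw [← hp]
      exact (Submodule.Quotient.mk_eq_zero C).2 ⟨l', rfl⟩
  · refine (injective_iff_map_eq_zero _).2 fun q hq => ?_
    obtain ⟨l, rfl⟩ := Submodule.Quotient.mk_surjective _ q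
    obtain ⟨m, hm⟩ := (Submodule.Quotient.mk_eq_zero A).1 hq
    refine (Submodule.Quotient.mk_eq_zero _).2 ⟨m, hι ?_⟩
    simpa using hm
  · intro q
    obtain ⟨l, rfl⟩ := Submodule.Quotient.mk_surjective _ q
    constructor
    · intro h
      obtain ⟨m, hm⟩ := (Submodule.Quotient.mk_eq_zero (LinearMap.range ι)).1 h
      exact ⟨Submodule.Quotient.mk m, congrArg Submodule.Quotient.mk hm⟩
    · rintro ⟨p, hp⟩
      obtain ⟨m, rfl⟩ := Submodule.Quotient.mk_surjective _ p
      rw [← hp]
      exact (Submodule.Quotient.mk_eq_zero (LinearMap.range ι)).2 ⟨m, rfl⟩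

theorem spanFinrank_le_length [IsLocalRing R] {M : Type u} [AddCommGroup M] [Module R M] [Module.Finite R M]
    {x : R} (hx : x ∈ IsLocalRing.maximalIdeal R) :
    ((⊤ : Submodule R M).spanFinrank : ℕ∞) ≤ Module.length R (M ⧸ LinearMap.range (x • LinearMap.id : M →ₗ[R] M)) := by
  let T : Submodule R M := ⊤
  let Q := T ⧸ (IsLocalRing.maximalIdeal R) • (⊤ : Submodule R T)
  let _ := Ideal.Quotient.field (IsLocalRing.maximalIdeal R)
  haveI : Module.Finite (R ⧸ IsLocalRing.maximalIdeal R) Q := Module.Finite.of_restrictScalars_finite R _ Q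
  rw [IsLocalRing.spanFinrank_eq_finrank_quotient ⊤ Module.Finite.fg_top, ← Module.length_eq_finrank,
    ← Module.length_eq_of_surjective (S := R) Ideal.Quotient.mk_surjective]
  refine Module.length_le_of_surjective
    ((LinearMap.range (x • LinearMap.id : M →ₗ[R] M)).mapQ _ Submodule.topEquiv.symm.toLinearMap ?_) ?_
  · rintro _ ⟨m, rfl⟩
    simp only [Submodule.mem_comap, LinearMap.smul_apply, LinearMap.id_apply, map_smul]
    exact Submodule.smul_mem_smul hx Submodule.mem_top
  · intro q
    obtain ⟨t, rfl⟩ := Submodule.Quotient.mk_surjective _ q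
    exact ⟨Submodule.Quotient.mk (t : M), congrArg Submodule.Quotient.mk (Subtype.ext rfl)⟩

variable {O : Type u} [CommRing O] [IsDomain O] [IsLocalRing O]

theorem spanFinrank_le_mul_multiplicity [IsNoetherianRing O] [Infinite (IsLocalRing.ResidueField O)]
    (hdim : ringKrullDim O = 1) (K : Type u) [Field K] [Algebra O K] [IsFractionRing O K]
    (hfin : Module.Finite O ↥(integralClosure O K)) (M : Type u) [AddCommGroup M] [Module O M] [Module.Finite O M]
    [NoZeroSMulDivisors O M] (n : ℕ) (hn : Module.finrank K (K ⊗[O] M) = n) :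
    ((⊤ : Submodule O M).spanFinrank : ℕ∞) ≤ (n : ℕ∞) * Module.length O (↥(integralClosure O K) ⧸
      (IsLocalRing.maximalIdeal O) • (⊤ : Submodule O ↥(integralClosure O K))) := by
  classical
  let m := IsLocalRing.maximalIdeal O
  obtain ⟨M', hM1, hM2, ⟨e⟩⟩ := exists_sandwich hdim K hfin M n hn
  obtain ⟨hded, hmax⟩ := isDedekind_normalisation hdim K hfin
  have : IsPrincipalIdealRing ↥(integralClosure O K) := IsPrincipalIdealRing.of_finite_maximals hmax
  -- an element of the maximal ideal generating its extension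
  obtain ⟨x, hxm, hx0, hxgen⟩ : ∃ x ∈ m, x ≠ 0 ∧
      m.map (algebraMap O ↥(integralClosure O K)) ≤ Ideal.span {algebraMap O _ x} := by
    obtain ⟨y, hy⟩ := (IsPrincipalIdealRing.principal (m.map (algebraMap O ↥(integralClosure O K)))).principal
    have hy0 : y ≠ 0 := by
      rintro rfl
      obtain ⟨a, ha, ha0⟩ := Submodule.exists_mem_ne_zero_of_ne_bot (maximalIdeal_ne_bot hdim)
      have h := Ideal.mem_map_of_mem (algebraMap O ↥(integralClosure O K)) ha
      rw [hy, Submodule.span_zero_singleton, Submodule.mem_bot] at h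
      exact ha0 (IsFractionRing.injective O K (by simpa using congrArg Subtype.val h))
    let W : Ideal ↥(integralClosure O K) → Submodule O m := fun P =>
      ((P * Ideal.span {y}).restrictScalars O).comap ((Algebra.linearMap O ↥(integralClosure O K)) ∘ₗ m.subtype)
    have hW : ∀ P ∈ hmax.toFinset, W P ≠ ⊤ := fun P hP htop => by
      have hle : m.map (algebraMap O ↥(integralClosure O K)) ≤ P * Ideal.span {y} :=
        Ideal.map_le_iff_le_comap.2 fun a ha => (show (⟨a, ha⟩ : m) ∈ W P by rw [htop]; trivial)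
      have hyP : y ∈ P * Ideal.span {y} := hle (hy ▸ Submodule.mem_span_singleton_self y)
      obtain ⟨p, hp, hpy⟩ := Ideal.mem_mul_span_singleton.1 hyP
      have : p = 1 := mul_right_cancel₀ hy0 (by rw [hpy, one_mul])
      exact (hmax.mem_toFinset.1 hP).ne_top ((Ideal.eq_top_iff_one P).2 (this ▸ hp))
    obtain ⟨⟨x, hx⟩, hxW⟩ := exists_notMem_of_infinite hmax.toFinset W hW
    have hxy : algebraMap O ↥(integralClosure O K) x ∈ Ideal.span {y} := by
      have h := Ideal.mem_map_of_mem (algebraMap O ↥(integralClosure O K)) hx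
      rwa [hy] at h
    obtain ⟨a, ha⟩ := Ideal.mem_span_singleton'.1 hxy
    have hau : IsUnit a := by
      by_contra hna
      obtain ⟨P, hP, haP⟩ := exists_max_ideal_of_mem_nonunits hna
      exact hxW P (hmax.mem_toFinset.2 hP) (Ideal.mem_mul_span_singleton.2 ⟨a, haP, ha⟩)
    refine ⟨x, hx, fun h0 => ?_, ?_⟩
    · rw [h0, map_zero] at ha
      exact hy0 ((mul_eq_zero.1 ha).resolve_left hau.ne_zero)
    · rw [hy, ← ha, Ideal.span_singleton_mul_left_unit hau]
  -- the module inside the power of the normalisation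
  let σ : M →ₗ[O] (Fin n → ↥(integralClosure O K)) :=
    { toFun := fun p i => ⟨(e p : Fin n → K) i, hM2 (e p).2 i trivial⟩
      map_add' := fun p q => funext fun i => Subtype.ext (by simp)
      map_smul' := fun a p => funext fun i => Subtype.ext (by simp) }
  have hσ : Function.Injective σ := fun p q h => e.injective (Subtype.ext (funext fun i =>
    congrArg Subtype.val (congrFun h i)))
  obtain ⟨d, hd, hdS⟩ : ∃ d : O, d ≠ 0 ∧ ∀ s : ↥(integralClosure O K), ∃ a : O, algebraMap O K a = d • (s : K) := by
    obtain ⟨t, ht⟩ := hfin.fg_top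
    obtain ⟨⟨d, hd⟩, hdt⟩ := IsLocalization.exist_integer_multiples (nonZeroDivisors O) t
      (fun s : ↥(integralClosure O K) => (s : K))
    refine ⟨d, nonZeroDivisors.ne_zero hd, fun s => ?_⟩
    have hs : s ∈ Submodule.span O (t : Set ↥(integralClosure O K)) := ht ▸ Submodule.mem_top
    induction hs using Submodule.span_induction with
    | mem s hs => exact hdt s hs
    | zero => exact ⟨0, by simp⟩
    | add a b _ _ ha hb =>
      obtain ⟨a', ha'⟩ := ha
      obtain ⟨b', hb'⟩ := hb
      exact ⟨a' + b', by simp [ha', hb', smul_add]⟩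
    | smul r a _ ha =>
      obtain ⟨a', ha'⟩ := ha
      exact ⟨r * a', by simp [ha', Algebra.smul_def]; ring⟩
  have hσfin : IsFiniteLength O ((Fin n → ↥(integralClosure O K)) ⧸ LinearMap.range σ) := by
    haveI : Module.Finite O ↥(integralClosure O K) := hfin
    refine isFiniteLength_of_smul_eq_zero hdim hd fun q => ?_
    obtain ⟨v, rfl⟩ := Submodule.Quotient.mk_surjective _ q
    rw [← Submodule.Quotient.mk_smul, Submodule.Quotient.mk_eq_zero]
    choose a ha using fun i => hdS (v i)
    have hmem : (fun i => d • ((v i : ↥(integralClosure O K)) : K)) ∈ M' :=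
      hM1 fun i _ => by rw [← ha i]; exact Submodule.algebraMap_mem (a i)
    refine ⟨e.symm ⟨_, hmem⟩, funext fun i => Subtype.ext ?_⟩
    show (e (e.symm ⟨_, hmem⟩) : Fin n → K) i = _
    rw [e.apply_symm_apply]
    rfl
  have hxinj : Function.Injective fun l : Fin n → ↥(integralClosure O K) => x • l := fun l l' h =>
    funext fun i => Subtype.ext (smul_right_injective K hx0 (congrArg Subtype.val (congrFun h i)))
  refine (spanFinrank_le_length hxm).trans (le_of_eq ?_)
  rw [length_quotient_smul_eq σ hσ hσfin x hxinj]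
  have hrange : LinearMap.range (x • LinearMap.id : (Fin n → ↥(integralClosure O K)) →ₗ[O] (Fin n → ↥(integralClosure O K))) =
      Submodule.pi Set.univ (fun _ => m • (⊤ : Submodule O ↥(integralClosure O K))) := by
    ext v
    constructor
    · rintro ⟨w, rfl⟩ i -
      exact Submodule.smul_mem_smul hxm Submodule.mem_top
    · intro hv
      have h : ∀ i, ∃ s, s * algebraMap O ↥(integralClosure O K) x = v i := fun i => by
        have hi := hv i trivial
        rw [Ideal.smul_top_eq_map] at hi
        exact Ideal.mem_span_singleton'.1 (hxgen hi)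
      choose s hs using h
      refine ⟨s, funext fun i => ?_⟩
      show x • s i = v i
      rw [Algebra.smul_def, mul_comm, hs]
  rw [(Submodule.quotEquivOfEq _ _ hrange).length_eq, (Submodule.quotientPi _).length_eq, Module.length_pi_of_fintype,
    Finset.sum_const, Finset.card_univ, Fintype.card_fin, nsmul_eq_mul]

end Groth.Agent.TFCurv38
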