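import Groth.Agent.TFCurv38.Extend
import Groth.Agent.TFCurv38.Embed
import Groth.Agent.TFCurv38.Multiplicity
import Mathlib.RingTheory.Nakayama
import Mathlib.RingTheory.Localization.Integer

/-! Duality into a canonical ideal. -/

set_option autoImplicit false

noncomputable section

namespace Groth.Agent.TFCurv38

universe u

variable {O : Type u} [CommRing O] [IsDomain O] [IsLocalRing O] [IsNoetherianRing O]
  (hdim : ringKrullDim O = 1) {K : Type u} [Field K] [Algebra O K] [IsFractionRing O K]
  {ω : Submodule O K} (hω0 : ω ≠ ⊥) (hωfg : ω.FG)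
  (hωinj : CategoryTheory.HasInjectiveDimensionLT (ModuleCat.of O ↥ω) 2)

include hdim hω0 hωfg in
theorem exists_socle_element : ∃ e : K ⧸ ω, e ≠ 0 ∧ ∀ a ∈ IsLocalRing.maximalIdeal O, a • e = 0 := by
  classical
  obtain ⟨a, ham, ha0⟩ := Submodule.exists_mem_ne_zero_of_ne_bot (maximalIdeal_ne_bot hdim)
  have ha' : algebraMap O K a ≠ 0 := IsFractionRing.to_map_ne_zero_of_mem_nonZeroDivisors (mem_nonZeroDivisors_of_ne_zero ha0)
  obtain ⟨w, hw, hwa⟩ : ∃ w ∈ ω, w / algebraMap O K a ∉ ω := by
    by_contra hcon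
    push Not at hcon
    refine hω0 (Submodule.eq_bot_of_le_smul_of_le_jacobson_bot (IsLocalRing.maximalIdeal O) ω hωfg (fun w hw => ?_)
      (IsLocalRing.maximalIdeal_le_jacobson _))
    have h := Submodule.smul_mem_smul ham (hcon w hw)
    have h2 : a • (w / algebraMap O K a) = w := by rw [Algebra.smul_def, mul_div_cancel₀ _ ha']
    rwa [h2] at h
  let T : Submodule O (K ⧸ ω) := Submodule.span O {Submodule.Quotient.mk (w / algebraMap O K a)}
  have : Module.Finite O T := Module.Finite.of_fg (Submodule.fg_span_singleton _)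
  have hT : IsFiniteLength O T := isFiniteLength_of_smul_eq_zero hdim ha0 fun ⟨t, ht⟩ => Subtype.ext (by
    obtain ⟨r, rfl⟩ := Submodule.mem_span_singleton.1 ht
    show a • r • (Submodule.Quotient.mk (w / algebraMap O K a) : K ⧸ ω) = 0
    rw [smul_comm, ← Submodule.Quotient.mk_smul, Algebra.smul_def, mul_div_cancel₀ _ ha',
      (Submodule.Quotient.mk_eq_zero ω).2 hw, smul_zero])
  have hTne : Nontrivial T := Submodule.nontrivial_iff_ne_bot.2 fun h => hwa ((Submodule.Quotient.mk_eq_zero ω).1
    ((Submodule.span_singleton_eq_bot).1 h))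
  obtain ⟨-, hart⟩ := isFiniteLength_iff_isNoetherian_isArtinian.1 hT
  obtain ⟨S, hS, -⟩ := (eq_bot_or_exists_atom_le (⊤ : Submodule O T)).resolve_left top_ne_bot
  haveI : IsSimpleModule O S := isSimpleModule_iff_isAtom.2 hS
  obtain ⟨I, hI, ⟨e⟩⟩ := isSimpleModule_iff_quot_maximal.1 (inferInstance : IsSimpleModule O S)
  obtain rfl : I = IsLocalRing.maximalIdeal O := IsLocalRing.eq_maximalIdeal hI
  refine ⟨((e.symm 1 : S) : T).1, fun h => ?_, fun b hb => ?_⟩
  · exact one_ne_zero (e.symm.injective ((Subtype.ext (Subtype.ext h) : e.symm 1 = 0).trans (map_zero e.symm).symm))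
  · have h : b • e.symm 1 = 0 := by
      rw [← map_smul, show b • (1 : O ⧸ IsLocalRing.maximalIdeal O) = 0 from ?_, map_zero]
      rw [Algebra.smul_def, mul_one]
      exact Ideal.Quotient.eq_zero_iff_mem.2 hb
    exact congrArg (fun s : S => ((s : T) : K ⧸ ω)) h

include hdim hω0 hωfg hωinj in
theorem exists_map_ne_zero {T : Type u} [AddCommGroup T] [Module O T] {t : T} (ht : t ≠ 0) :
    ∃ ψ : T →ₗ[O] K ⧸ ω, ψ t ≠ 0 := by
  obtain ⟨e, he, hme⟩ := exists_socle_element hdim hω0 hωfg
  let I := LinearMap.ker (LinearMap.toSpanSingleton O T t)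
  have hI : I ≤ IsLocalRing.maximalIdeal O := IsLocalRing.le_maximalIdeal fun h => ht (by
    have h1 : (1 : O) ∈ I := h ▸ Submodule.mem_top
    simpa [I] using h1)
  let φ : (O ⧸ I) →ₗ[O] K ⧸ ω := I.liftQ (LinearMap.toSpanSingleton O (K ⧸ ω) e) fun r hr => hme r (hI hr)
  let i : (O ⧸ I) →ₗ[O] T := I.liftQ (LinearMap.toSpanSingleton O T t) le_rfl
  have hi : Function.Injective i := LinearMap.ker_eq_bot.1 (by simp [i, I, Submodule.ker_liftQ])
  obtain ⟨ψ, hψ⟩ := exists_extend i hi (ext_one_quotient O K ω hωinj _) φ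
  refine ⟨ψ, fun h => he ?_⟩
  have h1 := LinearMap.congr_fun hψ (Submodule.Quotient.mk 1)
  have e1 : i (Submodule.Quotient.mk 1) = t := by simp only [i, Submodule.liftQ_apply, LinearMap.toSpanSingleton_apply, one_smul]
  have e2 : φ (Submodule.Quotient.mk 1) = e := by simp only [φ, Submodule.liftQ_apply, LinearMap.toSpanSingleton_apply, one_smul]
  rw [LinearMap.coe_comp, Function.comp_apply, e1, e2, h] at h1
  exact h1.symm

omit [IsLocalRing O] [IsNoetherianRing O] in
include hω0 in
theorem exists_mul_of_end (θ : ω →ₗ[O] ω) : ∃ x : K, ∀ w : ω, ((θ w : ω) : K) = x * (w : K) := by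
  obtain ⟨w0, hw0, hw00⟩ := Submodule.exists_mem_ne_zero_of_ne_bot hω0
  refine ⟨(θ ⟨w0, hw0⟩ : K) / w0, fun w => ?_⟩
  obtain ⟨⟨a, s⟩, hs⟩ := IsLocalization.surj (nonZeroDivisors O) ((w : K) / w0)
  have hs0 : algebraMap O K s ≠ 0 := IsFractionRing.to_map_ne_zero_of_mem_nonZeroDivisors s.2
  have hw : (s : O) • w = a • (⟨w0, hw0⟩ : ω) := Subtype.ext (by
    show (s : O) • (w : K) = a • w0
    rw [Algebra.smul_def, Algebra.smul_def, ← hs]
    field_simp)
  have h := congrArg (fun z => ((θ z : ω) : K)) hw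
  simp only [map_smul, Submodule.coe_smul, Algebra.smul_def] at h
  rw [div_mul_eq_mul_div, eq_div_iff hw00]
  have hw' := congrArg Subtype.val hw
  simp only [Submodule.coe_smul, Algebra.smul_def] at hw'
  refine mul_left_cancel₀ hs0 ?_
  linear_combination w0 * h - ((θ ⟨w0, hw0⟩ : ω) : K) * hw'

include hdim hω0 hωfg hωinj in
theorem bijective_eval (M : Type u) [AddCommGroup M] [Module O M] [Module.Finite O M] [NoZeroSMulDivisors O M] :
    Function.Bijective (LinearMap.applyₗ' O : M → (M →ₗ[O] ω) →ₗ[O] ω) := by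
  classical
  obtain ⟨r, f, c, hc, hf, hcf⟩ := exists_injective_to_free O M
  obtain ⟨w0, hw0, hw00⟩ := Submodule.exists_mem_ne_zero_of_ne_bot hω0
  let ev : Fin r → ω →ₗ[O] (M →ₗ[O] ω) := fun i =>
    { toFun := fun w => ((LinearMap.proj i : (Fin r → O) →ₗ[O] O) ∘ₗ f).smulRight w
      map_add' := fun a b => LinearMap.ext fun m => by simp
      map_smul' := fun a b => LinearMap.ext fun m => smul_comm _ a b }
  have hinjK : Function.Injective (algebraMap O K) := IsFractionRing.injective O K
  have hc' : algebraMap O K c ≠ 0 := IsFractionRing.to_map_ne_zero_of_mem_nonZeroDivisors (mem_nonZeroDivisors_of_ne_zero hc)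
  constructor
  · intro m m' h
    refine hf (funext fun i => ?_)
    have h' := congrArg Subtype.val (LinearMap.congr_fun h (ev i ⟨w0, hw0⟩))
    simp only [LinearMap.applyₗ'_apply_apply, ev, LinearMap.coe_mk, AddHom.coe_mk, LinearMap.smulRight_apply,
      LinearMap.coe_comp, Function.comp_apply, LinearMap.coe_proj, Function.eval, Submodule.coe_smul,
      Algebra.smul_def] at h'
    exact hinjK (mul_right_cancel₀ hw00 h')
  · intro Φ
    have hh : ∀ y : Fin r → O, c • y ∈ LinearMap.range f := fun y => by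
      rw [← Submodule.Quotient.mk_eq_zero, Submodule.Quotient.mk_smul, hcf]
    let e := LinearEquiv.ofInjective f hf
    let h : (Fin r → O) →ₗ[O] M := e.symm.toLinearMap ∘ₗ ((DistribSMul.toLinearMap O _ c).codRestrict _ hh)
    have hfh : ∀ y, f (h y) = c • y := fun y => by
      show f (e.symm ⟨c • y, _⟩) = c • y
      rw [← LinearEquiv.ofInjective_apply (h := hf), e.apply_symm_apply]
    have hsum : ∀ m, c • m = ∑ i, f m i • h (Pi.single i 1) := fun m => hf (by
      rw [map_smul, map_sum]
      simp only [map_smul, hfh]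
      conv_lhs => rw [pi_eq_sum_univ' (f m)]
      rw [Finset.smul_sum]
      exact Finset.sum_congr rfl fun i _ => smul_comm _ _ _)
    choose x hx using fun i => exists_mul_of_end (ω := ω) hω0 (Φ ∘ₗ ev i)
    have hΦ : ∀ φ, algebraMap O K c * (Φ φ : K) = ∑ i, x i * (φ (h (Pi.single i 1)) : K) := fun φ => by
      have hφ : c • φ = ∑ i, ev i (φ (h (Pi.single i 1))) := LinearMap.ext fun m => by
        rw [LinearMap.smul_apply, ← map_smul, hsum, map_sum, LinearMap.sum_apply]
        exact Finset.sum_congr rfl fun i _ => by simp [ev]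
      have h' := congrArg (fun z => (Φ z : K)) hφ
      simp only [map_smul, map_sum, Submodule.coe_smul, Submodule.coe_sum, Algebra.smul_def] at h'
      rw [h']
      exact Finset.sum_congr rfl fun i _ => hx i _
    obtain ⟨⟨d, hd⟩, hdx⟩ := IsLocalization.exist_integer_multiples_of_finite (nonZeroDivisors O) x
    choose x1 hx1 using hdx
    have hx1' : ∀ i, algebraMap O K (x1 i) = algebraMap O K d * x i := fun i => by
      rw [hx1 i]
      exact Algebra.smul_def d _
    have hd' : algebraMap O K d ≠ 0 := IsFractionRing.to_map_ne_zero_of_mem_nonZeroDivisors hd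
    obtain ⟨m, hm⟩ : x1 ∈ LinearMap.range (d • f) := by
      by_contra hx1m
      obtain ⟨ψ, hψ⟩ := exists_map_ne_zero hdim hω0 hωfg hωinj (t := (Submodule.Quotient.mk x1 :
        (Fin r → O) ⧸ LinearMap.range (d • f))) fun h0 => hx1m ((Submodule.Quotient.mk_eq_zero _).1 h0)
      choose y hy using fun i => ω.mkQ_surjective (ψ (Submodule.Quotient.mk (Pi.single i 1)))
      let Ψ : (Fin r → O) →ₗ[O] K := Fintype.linearCombination O y
      have hΨ : ω.mkQ ∘ₗ Ψ = ψ ∘ₗ Submodule.mkQ _ := LinearMap.pi_ext' fun i => LinearMap.ext_ring (by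
        simp only [LinearMap.coe_comp, Function.comp_apply, LinearMap.coe_single, Submodule.mkQ_apply]
        rw [← hy i]
        simp [Ψ, Fintype.linearCombination_apply_single])
      have hmem : ∀ m, Ψ (d • f m) ∈ ω := fun m => by
        have h0 := LinearMap.congr_fun hΨ (d • f m)
        simp only [LinearMap.coe_comp, Function.comp_apply, Submodule.mkQ_apply] at h0
        rw [(Submodule.Quotient.mk_eq_zero (LinearMap.range (d • f))).2 (show d • f m ∈ LinearMap.range (d • f) from ⟨m, rfl⟩), map_zero] at h0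
        exact (Submodule.Quotient.mk_eq_zero ω).1 h0
      let φ : M →ₗ[O] ω := (Ψ ∘ₗ (d • f)).codRestrict ω hmem
      refine hψ ?_
      have h0 := LinearMap.congr_fun hΨ x1
      simp only [LinearMap.coe_comp, Function.comp_apply, Submodule.mkQ_apply] at h0
      rw [← h0, Submodule.Quotient.mk_eq_zero]
      have hval : (Φ φ : K) = Ψ x1 := by
        refine mul_left_cancel₀ hc' ?_
        rw [hΦ, Fintype.linearCombination_apply, Finset.mul_sum]
        refine Finset.sum_congr rfl fun i _ => ?_
        show x i * (φ (h (Pi.single i 1)) : K) = _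
        simp only [φ, LinearMap.codRestrict_apply, LinearMap.coe_comp, Function.comp_apply, LinearMap.smul_apply,
          hfh, Ψ]
        rw [map_smul, map_smul, Fintype.linearCombination_apply_single]
        simp only [Algebra.smul_def, hx1', map_one]
        ring
      exact hval ▸ (Φ φ).2
    refine ⟨m, LinearMap.ext fun φ => Subtype.ext (mul_left_cancel₀ hc' ?_)⟩
    rw [hΦ]
    have hfm : ∀ i, x i = algebraMap O K (f m i) := fun i => mul_left_cancel₀ hd' (by
      rw [← hx1', ← map_mul, ← congrFun hm i]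
      rfl)
    have h2 := congrArg (fun z => (φ z : K)) (hsum m)
    simp only [map_smul, map_sum, Submodule.coe_smul, Submodule.coe_sum, Algebra.smul_def] at h2
    simp only [hfm]
    exact h2

end Groth.Agent.TFCurv38
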