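import Mathlib.RingTheory.FiniteLength
import Mathlib.RingTheory.SimpleModule.Basic
import Mathlib.RingTheory.KrullDimension.Field
import Mathlib.RingTheory.KrullDimension.LocalRing
import Mathlib.RingTheory.Artinian.Ring
import Mathlib.RingTheory.DedekindDomain.Basic
import Mathlib.RingTheory.IntegralClosure.IntegralRestrict
import Mathlib.LinearAlgebra.TensorProduct.Tower
import Mathlib.LinearAlgebra.TensorProduct.Pi
import Mathlib.RingTheory.Flat.Basic
import Mathlib.Algebra.Module.Torsion.Basic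

/-! Modules over one-dimensional local domains. -/

set_option autoImplicit false

noncomputable section

namespace Groth.Agent.TFCurv38

open TensorProduct

universe u

variable {O : Type u} [CommRing O] [IsDomain O] [IsLocalRing O]

theorem maximalIdeal_ne_bot (hdim : ringKrullDim O = 1) : IsLocalRing.maximalIdeal O ≠ ⊥ := fun h => by
  have hf : IsField O := IsLocalRing.isField_iff_maximalIdeal_eq.2 h
  rw [ringKrullDim_eq_zero_of_isField hf] at hdim
  exact zero_ne_one hdim

theorem exists_smul_eq_zero_of_finiteLength (hm : IsLocalRing.maximalIdeal O ≠ ⊥) {T : Type u} [AddCommGroup T]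
    [Module O T] (hT : IsFiniteLength O T) : ∃ c : O, c ≠ 0 ∧ ∀ t : T, c • t = 0 := by
  obtain ⟨ϖ, hϖm, hϖ⟩ := Submodule.exists_mem_ne_zero_of_ne_bot hm
  suffices H : ∀ (T : Type u) [AddCommGroup T] [Module O T], IsFiniteLength O T → ∃ n : ℕ, ∀ t : T, ϖ ^ n • t = 0 by
    obtain ⟨n, hn⟩ := H T hT
    exact ⟨ϖ ^ n, pow_ne_zero n hϖ, hn⟩
  intro T _ _ hT
  induction hT with
  | of_subsingleton => exact ⟨0, fun t => Subsingleton.elim _ _⟩
  | @of_simple_quotient T _ _ N _ _ ih =>
    obtain ⟨n, hn⟩ := ih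
    refine ⟨n + 1, fun t => ?_⟩
    obtain ⟨I, hI, ⟨e⟩⟩ := isSimpleModule_iff_quot_maximal.1 (inferInstance : IsSimpleModule O (T ⧸ N))
    obtain rfl : I = IsLocalRing.maximalIdeal O := IsLocalRing.eq_maximalIdeal hI
    have h : ϖ • t ∈ N := by
      rw [← Submodule.Quotient.mk_eq_zero, Submodule.Quotient.mk_smul]
      refine e.injective ?_
      rw [map_smul, map_zero]
      obtain ⟨a, ha⟩ := Ideal.Quotient.mk_surjective (e (Submodule.Quotient.mk t))
      rw [← ha]
      exact Ideal.Quotient.eq_zero_iff_mem.2 (Ideal.mul_mem_right a _ hϖm)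
    rw [pow_succ, mul_smul]
    exact congrArg Subtype.val (hn ⟨_, h⟩)

section Torsion

variable {S : Type u} [CommRing S] [Algebra O S]

omit [IsLocalRing O] in
theorem isTorsionFree_tensor_pi (hS : ∀ (a : O) (s : S), a • s = 0 → a = 0 ∨ s = 0) (n : ℕ) (a : O)
    (x : S ⊗[O] (Fin n → O)) (h : a • x = 0) (ha : a ≠ 0) : x = 0 := by
  apply (TensorProduct.piScalarRight O O S (Fin n)).injective
  rw [map_zero]
  funext i
  have h' := congrArg (fun y => TensorProduct.piScalarRight O O S (Fin n) y i) h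
  simp only [map_smul, map_zero, Pi.smul_apply, Pi.zero_apply] at h'
  exact (hS _ _ h').resolve_left ha

omit [IsLocalRing O] in
theorem lTensor_injective_of_cokernel (hS : ∀ (a : O) (s : S), a • s = 0 → a = 0 ∨ s = 0) {n : ℕ}
    {M : Type u} [AddCommGroup M] [Module O M] (f : (Fin n → O) →ₗ[O] M) (hf : Function.Injective f)
    {c : O} (hc : c ≠ 0) (hcf : ∀ y : M ⧸ LinearMap.range f, c • y = 0) :
    Function.Injective (LinearMap.lTensor S f) := by
  have hh : ∀ y : M, c • y ∈ LinearMap.range f := fun y => by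
    rw [← Submodule.Quotient.mk_eq_zero, Submodule.Quotient.mk_smul, hcf]
  let e := LinearEquiv.ofInjective f hf
  let h : M →ₗ[O] (Fin n → O) := e.symm.toLinearMap ∘ₗ ((DistribSMul.toLinearMap O M c).codRestrict _ hh)
  have hhf : h ∘ₗ f = c • LinearMap.id := LinearMap.ext fun x => hf (by
    show f (e.symm ⟨c • f x, _⟩) = f (c • x)
    rw [← LinearEquiv.ofInjective_apply (h := hf), e.apply_symm_apply, map_smul])
  refine (injective_iff_map_eq_zero _).2 fun x hx => isTorsionFree_tensor_pi hS n c x ?_ hc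
  have h2 := congrArg (LinearMap.lTensor S h) hx
  rwa [← LinearMap.lTensor_comp_apply, hhf, LinearMap.lTensor_smul, LinearMap.lTensor_id, map_zero] at h2

omit [IsLocalRing O] in
theorem ker_lTensor_eq_torsion (hS : ∀ (a : O) (s : S), a • s = 0 → a = 0 ∨ s = 0) {n : ℕ}
    {M : Type u} [AddCommGroup M] [Module O M] (g : M →ₗ[O] (Fin n → O)) (hg : Function.Injective g)
    {c : O} (hc : c ≠ 0) (hcg : ∀ y : (Fin n → O) ⧸ LinearMap.range g, c • y = 0) :
    LinearMap.ker (LinearMap.lTensor S g) = Submodule.torsion O (S ⊗[O] M) := by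
  have hh : ∀ y : Fin n → O, c • y ∈ LinearMap.range g := fun y => by
    rw [← Submodule.Quotient.mk_eq_zero, Submodule.Quotient.mk_smul, hcg]
  let e := LinearEquiv.ofInjective g hg
  let h : (Fin n → O) →ₗ[O] M := e.symm.toLinearMap ∘ₗ ((DistribSMul.toLinearMap O _ c).codRestrict _ hh)
  have hhg : h ∘ₗ g = c • LinearMap.id := LinearMap.ext fun x => hg (by
    show g (e.symm ⟨c • g x, _⟩) = g (c • x)
    rw [← LinearEquiv.ofInjective_apply (h := hg), e.apply_symm_apply, map_smul])
  ext x
  rw [LinearMap.mem_ker, Submodule.mem_torsion_iff]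
  constructor
  · intro hx
    have h2 := congrArg (LinearMap.lTensor S h) hx
    rw [← LinearMap.lTensor_comp_apply, hhg, LinearMap.lTensor_smul, LinearMap.lTensor_id, map_zero] at h2
    exact ⟨⟨c, mem_nonZeroDivisors_of_ne_zero hc⟩, h2⟩
  · rintro ⟨⟨a, ha⟩, hax⟩
    exact isTorsionFree_tensor_pi hS n a _ (by rw [← map_smul]; exact (congrArg _ hax).trans (map_zero _))
      (nonZeroDivisors.ne_zero ha)

end Torsion

end Groth.Agent.TFCurv38
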