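import Groth.Agent.TorMod7.Basic
import Mathlib.Algebra.Category.ModuleCat.Kernels

/-! The first Tor group in a short exact sequence with free end or middle term. -/

set_option autoImplicit false

open CategoryTheory Category Limits MonoidalCategory

noncomputable section

namespace Groth.Agent.TFCurv38

universe u

variable {A : Type u} [CommRing A] (N : ModuleCat.{u} A)

theorem tor_one_iso_of_left {X Y Z : Type u} [AddCommGroup X] [Module A X] [Module.Projective A X]
    [AddCommGroup Y] [Module A Y] [AddCommGroup Z] [Module A Z] (f : X →ₗ[A] Y) (g : Y →ₗ[A] Z)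
    (hf : Function.Injective f) (hg : Function.Surjective g) (hex : LinearMap.range f = LinearMap.ker g)
    (hi : Function.Injective (LinearMap.lTensor N f)) :
    Nonempty (((Tor (ModuleCat.{u} A) 1).obj N).obj (ModuleCat.of A Y) ≅
      ((Tor (ModuleCat.{u} A) 1).obj N).obj (ModuleCat.of A Z)) := by
  let S : TorMod7.SES (ModuleCat.{u} A) := ⟨ShortComplex.mk (ModuleCat.ofHom f) (ModuleCat.ofHom g)
      (ModuleCat.hom_ext (LinearMap.range_le_ker_iff.1 hex.le)),
    { exact := (ShortComplex.moduleCat_exact_iff_range_eq_ker _).2 hex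
      mono_f := (ModuleCat.mono_iff_injective _).2 hf
      epi_g := (ModuleCat.epi_iff_surjective _).2 hg }⟩
  let F := (tensoringLeft (ModuleCat.{u} A)).obj N
  have hP : Projective S.1.X₁ := inferInstanceAs (Projective (ModuleCat.of A X))
  have h1 : Mono ((F.leftDerived 1).map S.1.g) :=
    (TorMod7.exact₂ F S 1).mono_g ((F.isZero_leftDerived_obj_projective_succ 0 S.1.X₁).eq_of_src _ _)
  have h0 : Mono ((F.leftDerived 0).map S.1.f) := (TorMod7.mono_leftDerived_zero_iff N S.1.f).2 hi
  have hδ : TorMod7.leftDerivedδ F S 0 = 0 := (TorMod7.exact₁ F S 0).mono_g_iff.1 h0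
  have h2 : Epi ((F.leftDerived 1).map S.1.g) := (TorMod7.exact₃ F S 0).epi_f hδ
  have : IsIso ((F.leftDerived 1).map S.1.g) := @isIso_of_mono_of_epi _ _ _ _ _ ((F.leftDerived 1).map S.1.g) h1 h2
  exact ⟨@asIso _ _ _ _ ((F.leftDerived 1).map S.1.g) this⟩

theorem tor_one_equiv_of_middle {X Y Z : Type u} [AddCommGroup X] [Module A X]
    [AddCommGroup Y] [Module A Y] [Module.Projective A Y] [AddCommGroup Z] [Module A Z] (f : X →ₗ[A] Y)
    (g : Y →ₗ[A] Z) (hf : Function.Injective f) (hg : Function.Surjective g)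
    (hex : LinearMap.range f = LinearMap.ker g) :
    Nonempty (LinearMap.ker (LinearMap.lTensor N f) ≃ₗ[A]
      (((Tor (ModuleCat.{u} A) 1).obj N).obj (ModuleCat.of A Z))) := by
  let S : TorMod7.SES (ModuleCat.{u} A) := ⟨ShortComplex.mk (ModuleCat.ofHom f) (ModuleCat.ofHom g)
      (ModuleCat.hom_ext (LinearMap.range_le_ker_iff.1 hex.le)),
    { exact := (ShortComplex.moduleCat_exact_iff_range_eq_ker _).2 hex
      mono_f := (ModuleCat.mono_iff_injective _).2 hf
      epi_g := (ModuleCat.epi_iff_surjective _).2 hg }⟩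
  let F := (tensoringLeft (ModuleCat.{u} A)).obj N
  have hP : Projective S.1.X₂ := inferInstanceAs (Projective (ModuleCat.of A Y))
  have hmono : Mono (TorMod7.leftDerivedδ F S 0) :=
    (TorMod7.exact₃ F S 0).mono_g ((F.isZero_leftDerived_obj_projective_succ 0 S.1.X₂).eq_of_src _ _)
  let e := F.leftDerivedZeroIsoSelf
  let i : (F.leftDerived 1).obj S.1.X₃ ≅ kernel ((F.leftDerived 0).map S.1.f) :=
    IsLimit.conePointUniqueUpToIso ((TorMod7.exact₁ F S 0).fIsKernel) (limit.isLimit _)
  let j : kernel ((F.leftDerived 0).map S.1.f) ≅ kernel (F.map S.1.f) :=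
    kernel.mapIso _ _ (e.app S.1.X₁) (e.app S.1.X₂) (e.hom.naturality S.1.f)
  exact ⟨(i ≪≫ j ≪≫ ModuleCat.kernelIsoKer (F.map S.1.f)).toLinearEquiv.symm⟩

end Groth.Agent.TFCurv38
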