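import Groth.Agent.TFCurv38.Series
import Groth.Agent.TFCurv38.LenDim
import Mathlib.RingTheory.PowerSeries.Inverse
import Mathlib.LinearAlgebra.Pi

/-! Monomial subspaces and monomial subrings of a power series ring. -/

set_option autoImplicit false

noncomputable section

namespace Groth.Agent.TFCurv38

open PowerSeries

universe u

variable {k : Type u} [Field k]

/-- All exponents of `f` lie in `E`. -/
def Supp (E : Set ℕ) (f : PowerSeries k) : Prop := ∀ n, coeff n f ≠ 0 → n ∈ E

theorem Supp.coeff_eq_zero {E : Set ℕ} {f : PowerSeries k} (h : Supp E f) {n : ℕ} (hn : n ∉ E) : coeff n f = 0 :=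
  not_not.1 fun hne => hn (h n hne)

theorem supp_mono {E E' : Set ℕ} (h : E ⊆ E') {f : PowerSeries k} (hf : Supp E f) : Supp E' f :=
  fun n hn => h (hf n hn)

theorem supp_add {E : Set ℕ} {f g : PowerSeries k} (hf : Supp E f) (hg : Supp E g) : Supp E (f + g) :=
  fun n hn => by
    rw [map_add] at hn
    by_contra h
    rw [hf.coeff_eq_zero h, hg.coeff_eq_zero h, add_zero] at hn
    exact hn rfl

theorem supp_sub {E : Set ℕ} {f g : PowerSeries k} (hf : Supp E f) (hg : Supp E g) : Supp E (f - g) :=
  fun n hn => by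
    rw [map_sub] at hn
    by_contra h
    rw [hf.coeff_eq_zero h, hg.coeff_eq_zero h, sub_zero] at hn
    exact hn rfl

theorem supp_mul {E E' E'' : Set ℕ} (h : ∀ a ∈ E, ∀ b ∈ E', a + b ∈ E'') {f g : PowerSeries k}
    (hf : Supp E f) (hg : Supp E' g) : Supp E'' (f * g) := fun n hn => by
  rw [coeff_mul] at hn
  obtain ⟨⟨a, b⟩, hab, hne⟩ := Finset.exists_ne_zero_of_sum_ne_zero hn
  rw [Finset.mem_antidiagonal] at hab
  exact hab ▸ h a (hf a (left_ne_zero_of_mul hne)) b (hg b (right_ne_zero_of_mul hne))

theorem supp_zero (E : Set ℕ) : Supp E (0 : PowerSeries k) := fun n hn => absurd (map_zero _) hn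

theorem supp_X_pow_iff {E : Set ℕ} {a : ℕ} : Supp E ((X : PowerSeries k) ^ a) ↔ a ∈ E := by
  constructor
  · intro h
    exact h a (by rw [coeff_X_pow_self]; exact one_ne_zero)
  · intro ha n hn
    rw [coeff_X_pow] at hn
    split_ifs at hn with h
    · exact h ▸ ha
    · exact absurd rfl hn

theorem supp_monomial {E : Set ℕ} {a : ℕ} (ha : a ∈ E) (c : k) : Supp E (monomial a c) := fun n hn => by
  rw [coeff_monomial] at hn
  split_ifs at hn with h
  · exact h ▸ ha
  · exact absurd rfl hn

theorem supp_sum {E : Set ℕ} {ι : Type*} (s : Finset ι) {f : ι → PowerSeries k} (h : ∀ i ∈ s, Supp E (f i)) :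
    Supp E (∑ i ∈ s, f i) := by
  classical
  induction s using Finset.induction with
  | empty => simpa using supp_zero E
  | insert i s hi ih =>
    rw [Finset.sum_insert hi]
    exact supp_add (h i (Finset.mem_insert_self _ _)) (ih fun j hj => h j (Finset.mem_insert_of_mem hj))

theorem exists_supp_union {E E' : Set ℕ} {f : PowerSeries k} (h : Supp (E ∪ E') f) :
    ∃ f₁ f₂, Supp E f₁ ∧ Supp E' f₂ ∧ f = f₁ + f₂ := by
  classical
  refine ⟨mk fun n => if n ∈ E then coeff n f else 0, mk fun n => if n ∈ E then 0 else coeff n f,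
    fun n hn => ?_, fun n hn => ?_, ?_⟩
  · rw [coeff_mk] at hn
    by_contra hne
    exact hn (if_neg hne)
  · rw [coeff_mk] at hn
    split_ifs at hn with hE
    · exact absurd rfl hn
    · exact (h n hn).resolve_left hE
  · ext n
    rw [map_add, coeff_mk, coeff_mk]
    split_ifs <;> simp

theorem supp_shift_iff {E : Set ℕ} {a : ℕ} {f : PowerSeries k} :
    Supp {n | a ≤ n ∧ n - a ∈ E} f ↔ ∃ h, Supp E h ∧ f = (X : PowerSeries k) ^ a * h := by
  constructor
  · intro hf
    obtain ⟨h, rfl⟩ := exists_eq_X_pow_mul (f := f) (n := a) (nat_le_order_iff.2 fun i hi =>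
      hf.coeff_eq_zero fun hm => absurd hm.1 (by omega))
    refine ⟨h, fun n hn => ?_, rfl⟩
    have h2 := hf (n + a) (by rwa [add_comm n a, coeff_X_pow_mul', if_pos (Nat.le_add_right a n),
      Nat.add_sub_cancel_left])
    simpa using h2.2
  · rintro ⟨h, hh, rfl⟩ n hn
    rw [coeff_X_pow_mul'] at hn
    split_ifs at hn with hle
    · exact ⟨hle, hh _ hn⟩
    · exact absurd rfl hn

section Ring

local instance (priority := high) (A : Subalgebra k (PowerSeries k)) : Ring A := A.toRing

variable {A : Subalgebra k (PowerSeries k)} {Γ : Set ℕ} (hmono : ∀ f : PowerSeries k, f ∈ A ↔ Supp Γ f)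

theorem smul_eq_mul' (a : A) (f : PowerSeries k) : a • f = (a : PowerSeries k) * f := rfl

include hmono in
theorem zero_mem_exps : 0 ∈ Γ := by
  have := (hmono 1).1 A.one_mem 0 (by simp)
  exact this

include hmono in
theorem add_mem_exps {a b : ℕ} (ha : a ∈ Γ) (hb : b ∈ Γ) : a + b ∈ Γ := by
  have := A.mul_mem ((hmono _).2 (supp_X_pow_iff.2 ha)) ((hmono _).2 (supp_X_pow_iff.2 hb))
  rw [← pow_add, hmono, supp_X_pow_iff] at this
  exact this

include hmono in
theorem mem_span_monomials (G : Finset ℕ) (f : PowerSeries k) :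
    f ∈ Submodule.span A ((fun a : ℕ => (X : PowerSeries k) ^ a) '' (G : Set ℕ)) ↔
      Supp {n | ∃ g ∈ G, g ≤ n ∧ n - g ∈ Γ} f := by
  classical
  constructor
  · intro hf
    induction hf using Submodule.span_induction with
    | mem x hx =>
      obtain ⟨a, ha, rfl⟩ := hx
      exact supp_X_pow_iff.2 ⟨a, ha, le_rfl, by simpa using zero_mem_exps hmono⟩
    | zero => exact supp_zero _
    | add x y _ _ hx hy => exact supp_add hx hy
    | smul r x _ hx =>
      rw [smul_eq_mul']
      refine supp_mul ?_ ((hmono _).1 r.2) hx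
      rintro a ha b ⟨g, hg, hle, hb⟩
      refine ⟨g, hg, by omega, ?_⟩
      rw [show a + b - g = a + (b - g) by omega]
      exact add_mem_exps hmono ha hb
  · induction G using Finset.induction generalizing f with
    | empty =>
      intro hf
      rw [show f = 0 from ext fun n => by
        rw [map_zero]
        exact hf.coeff_eq_zero fun ⟨g, hg, _⟩ => Finset.notMem_empty g hg]
      exact zero_mem _
    | insert g G hg ih =>
      intro hf
      obtain ⟨f₁, f₂, h₁, h₂, rfl⟩ := exists_supp_union (E := {n | g ≤ n ∧ n - g ∈ Γ})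
        (E' := {n | ∃ g ∈ G, g ≤ n ∧ n - g ∈ Γ}) (supp_mono (by
          rintro n ⟨g', hg', h⟩
          rcases Finset.mem_insert.1 hg' with rfl | hg'
          · exact Or.inl h
          · exact Or.inr ⟨g', hg', h⟩) hf)
      refine add_mem ?_ (Submodule.span_mono (Set.image_mono (by simp)) (ih _ h₂))
      obtain ⟨h, hh, rfl⟩ := supp_shift_iff.1 h₁
      rw [mul_comm]
      exact Submodule.smul_mem _ (⟨h, (hmono h).2 hh⟩ : A) (Submodule.subset_span ⟨g, by simp, rfl⟩)

include hmono in
theorem isUnit_iff_constantCoeff (a : A) : IsUnit a ↔ constantCoeff (a : PowerSeries k) ≠ 0 := by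
  constructor
  · intro h
    exact (PowerSeries.isUnit_iff_constantCoeff.1 (h.map A.val)).ne_zero
  · intro h
    have hv : Supp Γ (a : PowerSeries k)⁻¹ := by
      intro n
      induction n using Nat.strong_induction_on with
      | h n ih =>
        intro hn
        rcases Nat.eq_zero_or_pos n with rfl | hpos
        · exact zero_mem_exps hmono
        · rw [PowerSeries.coeff_inv, if_neg hpos.ne'] at hn
          obtain ⟨⟨i, j⟩, hij, hne⟩ := Finset.exists_ne_zero_of_sum_ne_zero (right_ne_zero_of_mul hn)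
          rw [Finset.mem_antidiagonal] at hij
          dsimp only at hne hij
          split_ifs at hne with hjn
          · exact hij ▸ add_mem_exps hmono ((hmono _).1 a.2 i (left_ne_zero_of_mul hne))
              (ih j hjn (right_ne_zero_of_mul hne))
          · exact absurd rfl hne
    exact IsUnit.of_mul_eq_one ⟨_, (hmono _).2 hv⟩ (Subtype.ext (PowerSeries.mul_inv_cancel _ h))

include hmono in
theorem isLocalRing_exps : IsLocalRing A := by
  refine IsLocalRing.of_nonunits_add fun a b ha hb => ?_
  simp only [mem_nonunits_iff, isUnit_iff_constantCoeff hmono, not_not] at ha hb ⊢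
  rw [Subalgebra.coe_add, map_add, ha, hb, add_zero]

include hmono in
theorem residue_surjective_exps [IsLocalRing A] :
    Function.Surjective (algebraMap k (IsLocalRing.ResidueField A)) := by
  intro x
  obtain ⟨a, rfl⟩ := IsLocalRing.residue_surjective x
  refine ⟨constantCoeff (a : PowerSeries k), ?_⟩
  rw [IsScalarTower.algebraMap_apply k A (IsLocalRing.ResidueField A), ← sub_eq_zero,
    show algebraMap A (IsLocalRing.ResidueField A) = IsLocalRing.residue A from rfl, ← map_sub,
    IsLocalRing.residue_eq_zero_iff, IsLocalRing.mem_maximalIdeal, mem_nonunits_iff, isUnit_iff_constantCoeff hmono]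
  simp

include hmono in
/-- The length of a quotient of two monomial submodules of rank one. -/
theorem length_quotient_supp [IsLocalRing A] (W B : Submodule A (Fin 1 → PowerSeries k)) (P Q : Set ℕ)
    (D : Finset ℕ) (hD : ∀ n, n ∈ D ↔ n ∈ P ∧ n ∉ Q) (hW : ∀ u, u ∈ W ↔ Supp P (u 0))
    (hB : ∀ u, u ∈ B ↔ Supp Q (u 0)) :
    Module.length A (W ⧸ B.comap W.subtype) = D.card := by
  classical
  let π : (Fin 1 → PowerSeries k) →ₗ[k] (D → k) := LinearMap.pi fun j => coeff (j : ℕ) ∘ₗ LinearMap.proj 0
  rw [length_quotient_of_proj (residue_surjective_exps hmono) W B π ?_ ?_, Fintype.card_coe]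
  · intro v
    refine ⟨fun _ => ∑ j : D, monomial (j : ℕ) (v j),
      (hW _).2 (supp_sum _ fun j _ => supp_monomial ((hD _).1 j.2).1 _), funext fun j => ?_⟩
    show coeff (j : ℕ) (∑ j' : D, monomial (j' : ℕ) (v j')) = v j
    rw [map_sum, Finset.sum_eq_single j]
    · simp [coeff_monomial]
    · intro b _ hb
      rw [coeff_monomial, if_neg fun e => hb (Subtype.ext e.symm)]
    · simp
  · intro u hu
    rw [hB]
    constructor
    · intro h
      exact funext fun j => h.coeff_eq_zero ((hD _).1 j.2).2
    · intro h n hn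
      by_contra hQ
      exact hn (congrFun h ⟨n, (hD n).2 ⟨(hW u).1 hu n hn, hQ⟩⟩)

include hmono in
/-- The length of a quotient of two monomial submodules, the same in each component. -/
theorem length_quotient_supp_pi [IsLocalRing A] {s : ℕ} (W B : Submodule A (Fin s → PowerSeries k))
    (P Q : Set ℕ) (D : Finset ℕ) (hD : ∀ n, n ∈ D ↔ n ∈ P ∧ n ∉ Q) (hW : ∀ u, u ∈ W ↔ ∀ b, Supp P (u b))
    (hB : ∀ u, u ∈ B ↔ ∀ b, Supp Q (u b)) :
    Module.length A (W ⧸ B.comap W.subtype) = ((s * D.card : ℕ) : ℕ∞) := by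
  classical
  let π : (Fin s → PowerSeries k) →ₗ[k] (Fin s × D → k) :=
    LinearMap.pi fun x => coeff (x.2 : ℕ) ∘ₗ LinearMap.proj x.1
  rw [length_quotient_of_proj (residue_surjective_exps hmono) W B π ?_ ?_, Fintype.card_prod, Fintype.card_fin,
    Fintype.card_coe]
  · intro v
    refine ⟨fun b => ∑ j : D, monomial (j : ℕ) (v (b, j)),
      (hW _).2 fun b => supp_sum _ fun j _ => supp_monomial ((hD _).1 j.2).1 _, funext fun x => ?_⟩
    show coeff (x.2 : ℕ) (∑ j' : D, monomial (j' : ℕ) (v (x.1, j'))) = v x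
    rw [map_sum, Finset.sum_eq_single x.2]
    · simp
    · intro b _ hb
      rw [coeff_monomial, if_neg fun e => hb (Subtype.ext e.symm)]
    · simp
  · intro u hu
    rw [hB]
    constructor
    · intro h
      exact funext fun x => (h x.1).coeff_eq_zero ((hD _).1 x.2.2).2
    · intro h b n hn
      by_contra hQ
      exact hn (congrFun h (b, ⟨n, (hD n).2 ⟨(hW u).1 hu b n hn, hQ⟩⟩))

end Ring

end Groth.Agent.TFCurv38
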