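import Groth.Agent.TFCurv38.Presentation
import Groth.Agent.TFCurv38.Mon

/-! Extensions between monomial modules over monomial rings. -/

set_option autoImplicit false

noncomputable section

namespace Groth.Agent.TFCurv38

open PowerSeries CategoryTheory Abelian

universe u

variable {k : Type u} [Field k] {A : Subalgebra k (PowerSeries k)} {Γ : Set ℕ}
  (hmono : ∀ f : PowerSeries k, f ∈ A ↔ Supp Γ f)

local instance (priority := high) (A : Subalgebra k (PowerSeries k)) : Ring A := A.toRing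

include hmono in
/-- Extensions of `A + A X^S` by a monomial module, with `X^a X^S = X^b`. -/
theorem length_ext_pair (S a b : ℕ) (ha : a ∈ Γ) (hb : b ∈ Γ) (hab : a + S = b) (G : Finset ℕ) (E : Set ℕ)
    (hE : ∀ n, n ∈ E ↔ ∃ g ∈ G, g ≤ n ∧ n - g ∈ Γ) (D : Finset ℕ)
    (hD : ∀ n, n ∈ D ↔ (∀ z ∈ Γ, z + S ∈ Γ → a ≤ z + n ∧ z + n - a ∈ E) ∧
      ¬((a ≤ n ∧ n - a ∈ E) ∨ (b ≤ n ∧ n - b ∈ E)))
    (M N : Submodule A (PowerSeries k)) (hM : M = Submodule.span A {1, (X : PowerSeries k) ^ S})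
    (hN : N = Submodule.span A ((fun m : ℕ => (X : PowerSeries k) ^ m) '' (G : Set ℕ))) :
    Module.length A (Ext (ModuleCat.of A M) (ModuleCat.of A N) 1) = D.card := by
  classical
  have : IsLocalRing A := isLocalRing_exps hmono
  let d : A := ⟨(X : PowerSeries k) ^ a, (hmono _).2 (supp_X_pow_iff.2 ha)⟩
  let c : Fin 1 → A := fun _ => ⟨(X : PowerSeries k) ^ b, (hmono _).2 (supp_X_pow_iff.2 hb)⟩
  let g : Fin 1 → PowerSeries k := fun _ => (X : PowerSeries k) ^ S
  have hNmem : ∀ f, f ∈ N ↔ Supp E f := fun f => by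
    rw [hN, mem_span_monomials hmono, show {n | ∃ g ∈ G, g ≤ n ∧ n - g ∈ Γ} = E from (Set.ext hE).symm]
  rw [length_ext_of_relations (1 : PowerSeries k) g d ?_ ?_ c ?_ M N ?_]
  · refine length_quotient_supp hmono _ _ {n | ∀ z ∈ Γ, z + S ∈ Γ → a ≤ z + n ∧ z + n - a ∈ E}
      ({n | a ≤ n ∧ n - a ∈ E} ∪ {n | b ≤ n ∧ n - b ∈ E}) D hD (fun u => ?_) (fun u => ?_)
    · constructor
      · intro hu p hp z hz hzS
        obtain ⟨y, hy, hy'⟩ := hu (fun _ => ⟨(X : PowerSeries k) ^ z, (hmono _).2 (supp_X_pow_iff.2 hz)⟩)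
          ⟨-⟨(X : PowerSeries k) ^ (z + S), (hmono _).2 (supp_X_pow_iff.2 hzS)⟩, by
            simp [g, smul_eq_mul', pow_add]⟩
        simp only [Fin.sum_univ_one, smul_eq_mul', d] at hy'
        have := (supp_shift_iff (E := E) (a := a)).2 ⟨y, (hNmem y).1 hy, hy'.symm⟩ (z + p)
          (by rw [add_comm z p, coeff_X_pow_mul', if_pos (Nat.le_add_left z p), Nat.add_sub_cancel]; exact hp)
        exact this
      · intro hu z hz
        obtain ⟨z0, hz0⟩ := hz
        simp only [Fin.sum_univ_one, g, smul_eq_mul', mul_one] at hz0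
        have hzS : Supp Γ ((X : PowerSeries k) ^ S * (z 0 : PowerSeries k)) := by
          rw [mul_comm, eq_neg_of_add_eq_zero_right hz0]
          exact (hmono _).1 (A.neg_mem z0.2)
        have hz' : Supp {m | m ∈ Γ ∧ m + S ∈ Γ} (z 0 : PowerSeries k) := fun m hm =>
          ⟨(hmono _).1 (z 0).2 m hm, hzS (m + S) (by
            rwa [coeff_X_pow_mul', if_pos (Nat.le_add_left S m), Nat.add_sub_cancel])⟩
        obtain ⟨y, hy, hy'⟩ := supp_shift_iff.1
          (supp_mul (E := {m | m ∈ Γ ∧ m + S ∈ Γ}) (E' := {n | ∀ z ∈ Γ, z + S ∈ Γ → a ≤ z + n ∧ z + n - a ∈ E})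
            (E'' := {m | a ≤ m ∧ m - a ∈ E}) (fun m hm p hp => hp m hm.1 hm.2) hz' hu)
        exact ⟨y, (hNmem y).2 hy, by simpa [d, smul_eq_mul'] using hy'.symm⟩
    · constructor
      · rintro ⟨n0, hn0, n, hn, hu⟩
        rw [hu 0]
        simp only [smul_eq_mul', d, c]
        exact supp_sub (supp_mono Set.subset_union_left (supp_shift_iff.2 ⟨_, (hNmem _).1 (hn 0), rfl⟩))
          (supp_mono Set.subset_union_right (supp_shift_iff.2 ⟨_, (hNmem _).1 hn0, rfl⟩))
      · intro hu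
        obtain ⟨f₁, f₂, h₁, h₂, he⟩ := exists_supp_union hu
        obtain ⟨y₁, hy₁, rfl⟩ := supp_shift_iff.1 h₁
        obtain ⟨y₂, hy₂, rfl⟩ := supp_shift_iff.1 h₂
        refine ⟨-y₂, N.neg_mem ((hNmem _).2 hy₂), fun _ => y₁, fun _ => (hNmem _).2 hy₁, fun i => ?_⟩
        rw [Subsingleton.elim i 0, he]
        simp [d, c, smul_eq_mul']
  · intro x hx
    exact (mul_eq_zero.1 hx).resolve_left (pow_ne_zero _ X_ne_zero)
  · intro r hr
    exact Subtype.ext (by simpa [smul_eq_mul'] using hr)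
  · intro _
    simp [c, d, g, smul_eq_mul', ← pow_add, hab]
  · rw [hM, Set.range_const]

include hmono in
/-- Extensions by a monomial module stable under the generators `X^(e b)` of the source. -/
theorem length_ext_multi {s : ℕ} (e : Fin s → ℕ) (a : ℕ) (ha : a ∈ Γ) (he : ∀ b, a + e b ∈ Γ)
    (E : Set ℕ) (hstab : ∀ b, ∀ n ∈ E, e b + n ∈ E) (Z P : Set ℕ)
    (hrel : ∀ z : Fin s → A, (∃ z0 : A, z0 • (1 : PowerSeries k) + ∑ b, z b • (X : PowerSeries k) ^ e b = 0) →
      ∀ b, Supp Z (z b : PowerSeries k))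
    (hZP : ∀ z ∈ Z, ∀ p ∈ P, a ≤ z + p ∧ z + p - a ∈ E)
    (M N : Submodule A (PowerSeries k))
    (hM : M = Submodule.span A (insert 1 (Set.range fun b => (X : PowerSeries k) ^ e b)))
    (hN : ∀ f, f ∈ N ↔ Supp E f)
    (hP : ∀ u : Fin s → PowerSeries k, (∀ z : Fin s → A,
      (∃ z0 : A, z0 • (1 : PowerSeries k) + ∑ b, z b • (X : PowerSeries k) ^ e b = 0) →
        Supp {n | a ≤ n ∧ n - a ∈ E} (∑ b, z b • u b)) → ∀ b, Supp P (u b))
    (D : Finset ℕ) (hD : ∀ n, n ∈ D ↔ n ∈ P ∧ ¬(a ≤ n ∧ n - a ∈ E)) :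
    Module.length A (Ext (ModuleCat.of A M) (ModuleCat.of A N) 1) = ((s * D.card : ℕ) : ℕ∞) := by
  classical
  have : IsLocalRing A := isLocalRing_exps hmono
  let d : A := ⟨(X : PowerSeries k) ^ a, (hmono _).2 (supp_X_pow_iff.2 ha)⟩
  let c : Fin s → A := fun b => ⟨(X : PowerSeries k) ^ (a + e b), (hmono _).2 (supp_X_pow_iff.2 (he b))⟩
  rw [length_ext_of_relations (1 : PowerSeries k) (fun b => (X : PowerSeries k) ^ e b) d ?_ ?_ c ?_ M N hM]
  · refine length_quotient_supp_pi hmono _ _ P {n | a ≤ n ∧ n - a ∈ E} D hD (fun u => ?_) (fun u => ?_)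
    · constructor
      · intro hu
        refine hP u fun z hz => ?_
        obtain ⟨y, hy, hy'⟩ := hu z hz
        rw [← hy']
        exact supp_shift_iff.2 ⟨y, (hN y).1 hy, rfl⟩
      · intro hu z hz
        obtain ⟨y, hy, hy'⟩ := supp_shift_iff.1 (supp_sum Finset.univ (f := fun b => z b • u b) fun b _ =>
          supp_mul (E'' := {n | a ≤ n ∧ n - a ∈ E}) hZP (hrel z hz b) (hu b))
        exact ⟨y, (hN y).2 hy, hy'.symm⟩
    · constructor
      · rintro ⟨n0, hn0, n, hn, hu⟩ b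
        rw [hu b]
        simp only [smul_eq_mul', d, c, pow_add, mul_assoc]
        refine supp_sub (supp_shift_iff.2 ⟨_, (hN _).1 (hn b), rfl⟩) (supp_shift_iff.2 ⟨_, ?_, rfl⟩)
        exact supp_mul (E := {e b}) (fun x hx y hy => hx ▸ hstab b y hy) (supp_X_pow_iff.2 rfl) ((hN _).1 hn0)
      · intro hu
        choose y hy hy' using fun b => supp_shift_iff.1 (hu b)
        exact ⟨0, N.zero_mem, y, fun b => (hN _).2 (hy b), fun b => by simp [d, smul_eq_mul', hy']⟩
  · intro x hx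
    exact (mul_eq_zero.1 hx).resolve_left (pow_ne_zero _ X_ne_zero)
  · intro r hr
    exact Subtype.ext (by simpa [smul_eq_mul'] using hr)
  · intro b
    simp [c, d, smul_eq_mul', pow_add]

end Groth.Agent.TFCurv38
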