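import Groth.Agent.TFCurv38.ExtMono
import Groth.Agent.TFCurv38.ExtIso

/-! The monomial rings without terms of degree `1, …, n - 1`. -/

set_option autoImplicit false

noncomputable section

namespace Groth.Agent.TFCurv38

open PowerSeries CategoryTheory Abelian

universe u

variable {k : Type u} [Field k] {A : Subalgebra k (PowerSeries k)} {n : ℕ}
  (hmono : ∀ f : PowerSeries k, f ∈ A ↔ Supp {m : ℕ | m = 0 ∨ n ≤ m} f)

local instance (priority := high) (A : Subalgebra k (PowerSeries k)) : Ring A := A.toRing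

theorem insert_one_range_eq {s : ℕ} (e : Fin s → ℕ) :
    (insert 1 (Set.range fun b => (X : PowerSeries k) ^ e b) : Set (PowerSeries k)) =
      (fun a : ℕ => (X : PowerSeries k) ^ a) '' ((insert 0 (Finset.univ.image e) : Finset ℕ) : Set ℕ) := by
  simp [Set.image_insert_eq, ← Set.range_comp, Function.comp_def]

include hmono in
theorem relation_supp {s : ℕ} (e : Fin s → ℕ) (he : Function.Injective e) (h1 : ∀ b, 1 ≤ e b)
    (h2 : ∀ b, e b < n) (z : Fin s → A)
    (hz : ∃ z0 : A, z0 • (1 : PowerSeries k) + ∑ b, z b • (X : PowerSeries k) ^ e b = 0) (b : Fin s) :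
    Supp (Set.Ici n) (z b : PowerSeries k) := by
  intro m hm
  rcases (hmono _).1 (z b).2 m hm with rfl | h
  · refine absurd ?_ hm
    obtain ⟨z0, hz0⟩ := hz
    have h := congrArg (coeff (e b)) hz0
    simp only [smul_eq_mul', map_add, map_sum, map_zero, mul_one, coeff_mul_X_pow'] at h
    rw [((hmono _).1 z0.2).coeff_eq_zero (n := e b)
      (by rintro (h' | h') <;> have := h1 b <;> have := h2 b <;> omega), zero_add,
      Finset.sum_eq_single b, if_pos le_rfl, Nat.sub_self] at h
    · exact h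
    · intro b' _ hb'
      split_ifs with hle
      · refine ((hmono _).1 (z b').2).coeff_eq_zero ?_
        rintro (h' | h')
        · exact hb' (he (by omega))
        · have := h2 b
          omega
      · rfl
    · simp
  · exact h

include hmono in
theorem supp_of_single {s : ℕ} (e : Fin s → ℕ) (E : Set ℕ) (u : Fin s → PowerSeries k)
    (hu : ∀ z : Fin s → A,
      (∃ z0 : A, z0 • (1 : PowerSeries k) + ∑ b, z b • (X : PowerSeries k) ^ e b = 0) →
        Supp {m | n ≤ m ∧ m - n ∈ E} (∑ b, z b • u b)) (b : Fin s) :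
    Supp {p | ∀ r, r + p ∈ E} (u b) := by
  classical
  intro p hp r
  have hq : ∀ q, n ≤ q → (X : PowerSeries k) ^ q ∈ A := fun q hq => (hmono _).2 (supp_X_pow_iff.2 (Or.inr hq))
  have h := hu (Pi.single b ⟨_, hq (n + r) (Nat.le_add_right _ _)⟩)
    ⟨-⟨_, hq (n + r + e b) (by omega)⟩, by
      rw [Finset.sum_eq_single b]
      · simp [smul_eq_mul', pow_add]
      · intro b' _ hb'
        simp [Pi.single_eq_of_ne hb']
      · simp⟩
  rw [Finset.sum_eq_single b (fun b' _ hb' => by simp [Pi.single_eq_of_ne hb']) (by simp), Pi.single_eq_same] at h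
  have h' := h (n + r + p) (by
    rw [smul_eq_mul', add_comm (n + r) p, coeff_X_pow_mul', if_pos (Nat.le_add_left _ p), Nat.add_sub_cancel]
    exact hp)
  have h2 := h'.2
  rwa [show n + r + p - n = r + p by omega] at h2

include hmono in
/-- Extensions by a monomial ideal of the normalisation, in the cubical monomial ring. -/
theorem length_ext_cubical {s : ℕ} (e : Fin s → ℕ) (he : Function.Injective e) (h1 : ∀ b, 1 ≤ e b)
    (h2 : ∀ b, e b < n) (E : Set ℕ) (hstab : ∀ b, ∀ x ∈ E, e b + x ∈ E) (P : Set ℕ)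
    (hP : ∀ p, p ∈ P ↔ ∀ r, r + p ∈ E) (M N : Submodule A (PowerSeries k))
    (hM : M = Submodule.span A (insert 1 (Set.range fun b => (X : PowerSeries k) ^ e b)))
    (hN : ∀ f, f ∈ N ↔ Supp E f) (D : Finset ℕ) (hD : ∀ m, m ∈ D ↔ m ∈ P ∧ ¬(n ≤ m ∧ m - n ∈ E)) :
    Module.length A (Ext (ModuleCat.of A M) (ModuleCat.of A N) 1) = ((s * D.card : ℕ) : ℕ∞) := by
  refine length_ext_multi hmono e n (Or.inr le_rfl) (fun b => Or.inr (Nat.le_add_right _ _)) E hstab
    (Set.Ici n) P (fun z hz => relation_supp hmono e he h1 h2 z hz) ?_ M N hM hN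
    (fun u hu b => supp_mono (fun p hp => (hP p).2 hp) (supp_of_single hmono e E u hu b)) D hD
  intro z hz p hp
  refine ⟨le_add_right hz, ?_⟩
  have h := (hP p).1 hp (z - n)
  rwa [show z + p - n = z - n + p from Nat.sub_add_comm hz]

include hmono in
theorem length_end_quotient [IsLocalRing A] (hn : 1 ≤ n) :
    Module.length A ((PowerSeries k →ₗ[A] PowerSeries k) ⧸
      LinearMap.range (Algebra.lsmul A A (PowerSeries k) : A →ₐ[A] Module.End A (PowerSeries k)).toLinearMap) =
      ((n - 1 : ℕ) : ℕ∞) := by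
  classical
  have hXn : (X : PowerSeries k) ^ n ∈ A := (hmono _).2 (supp_X_pow_iff.2 (Or.inr le_rfl))
  have hmul : ∀ (φ : PowerSeries k →ₗ[A] PowerSeries k) (f : PowerSeries k), φ f = f * φ 1 := by
    intro φ f
    have h : (X : PowerSeries k) ^ n * f ∈ A := (hmono _).2
      (supp_mono (fun m (hm : n ≤ m ∧ m - n ∈ Set.univ) => Or.inr hm.1)
        (supp_shift_iff.2 ⟨f, fun _ _ => trivial, rfl⟩))
    have h1 := φ.map_smul ⟨_, hXn⟩ f
    have h2 := φ.map_smul ⟨_, h⟩ 1
    simp only [smul_eq_mul', mul_one] at h1 h2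
    rw [h1, mul_assoc] at h2
    exact mul_left_cancel₀ (pow_ne_zero _ X_ne_zero) h2
  let ev : (PowerSeries k →ₗ[A] PowerSeries k) →ₗ[A] PowerSeries k :=
    { toFun := fun φ => φ 1, map_add' := fun _ _ => rfl, map_smul' := fun _ _ => rfl }
  let l : PowerSeries k → (PowerSeries k →ₗ[A] PowerSeries k) := fun f =>
    { toFun := fun g => g * f
      map_add' := fun x y => add_mul x y f
      map_smul' := fun r x => mul_assoc _ _ _ }
  let e := LinearEquiv.ofBijective ev ⟨fun φ ψ h => LinearMap.ext fun f => by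
    rw [hmul φ f, hmul ψ f, show φ 1 = ψ 1 from h], fun f => ⟨l f, one_mul f⟩⟩
  let B : Submodule A (PowerSeries k) := LinearMap.range (Algebra.linearMap A (PowerSeries k))
  have hB : Submodule.map (e : (PowerSeries k →ₗ[A] PowerSeries k) →ₗ[A] PowerSeries k)
      (LinearMap.range (Algebra.lsmul A A (PowerSeries k) : A →ₐ[A] Module.End A (PowerSeries k)).toLinearMap) = B := by
    ext f
    constructor
    · rintro ⟨_, ⟨a, rfl⟩, rfl⟩
      exact ⟨a, (mul_one (a : PowerSeries k)).symm⟩
    · rintro ⟨a, rfl⟩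
      exact ⟨_, ⟨a, rfl⟩, mul_one (a : PowerSeries k)⟩
  rw [(Submodule.Quotient.equiv _ B e hB).length_eq,
    ← (Submodule.Quotient.equiv (B.comap (⊤ : Submodule A (PowerSeries k)).subtype) B Submodule.topEquiv
      (Submodule.map_comap_eq_of_surjective (fun x => ⟨⟨x, trivial⟩, rfl⟩) B)).length_eq,
    length_quotient_of_proj (residue_surjective_exps hmono) ⊤ B
      (LinearMap.pi fun j : Fin (n - 1) => coeff (j.1 + 1)) ?_ ?_, Fintype.card_fin]
  · intro v
    refine ⟨mk fun m => if h : 1 ≤ m ∧ m < n then v ⟨m - 1, by omega⟩ else 0, trivial, funext fun j => ?_⟩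
    simp only [LinearMap.pi_apply, coeff_mk]
    rw [dif_pos ⟨by omega, by omega⟩]
    rfl
  · intro u _
    constructor
    · rintro ⟨a, rfl⟩
      exact funext fun j => ((hmono _).1 a.2).coeff_eq_zero (by rintro (h | h) <;> omega)
    · intro h
      refine ⟨⟨u, (hmono u).2 fun m hm => ?_⟩, rfl⟩
      by_contra hm'
      simp only [Set.mem_ofPred_eq, not_or, not_le] at hm'
      have h0 := congrFun h ⟨m - 1, by omega⟩
      refine hm ?_
      rw [show m = m - 1 + 1 by omega]
      exact h0

end Groth.Agent.TFCurv38
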