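import Groth.Agent.TFCurv38.Series

/-! Submodules over a closed subalgebra with all large leading exponents contain a power of the maximal ideal. -/

set_option autoImplicit false

noncomputable section

namespace Groth.Agent.TFCurv38

open PowerSeries

universe u

variable {k : Type u} [Field k]

theorem mem_of_forall_orders_module (A : Subalgebra k (PowerSeries k)) (hA : Module.Finite ↥A (PowerSeries k))
    (hcl : ∀ f : PowerSeries k, (∀ n : ℕ, ∃ g ∈ A, (n : ℕ∞) ≤ order (f - g)) → f ∈ A)
    (N : Submodule ↥A (PowerSeries k)) {c : ℕ} (h : ∀ n, c ≤ n → ∃ g ∈ N, order g = n)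
    {f : PowerSeries k} (hf : (c : ℕ∞) ≤ order f) : f ∈ N := by
  classical
  obtain ⟨a, ha, d, hd, had⟩ := exists_pos_order A hA
  have hgen : ∀ r : Fin d, ∃ g ∈ N, order g = ((c + r : ℕ) : ℕ∞) := fun r => h _ (Nat.le_add_right _ _)
  choose g hg hgord using hgen
  -- one block of exponents
  have hblock : ∀ (j m : ℕ) (F : PowerSeries k), ((c + j * d : ℕ) : ℕ∞) ≤ order F → m ≤ d →
      ∃ l : Fin d → k, ((c + j * d + m : ℕ) : ℕ∞) ≤ order (F - ∑ r, C (l r) * a ^ j * g r) := by
    intro j m F hF
    induction m with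
    | zero => exact fun _ => ⟨0, by simpa using hF⟩
    | succ m ih =>
      intro hm
      obtain ⟨l, hl⟩ := ih (Nat.le_of_succ_le hm)
      let R := F - ∑ r, C (l r) * a ^ j * g r
      let h' := a ^ j * g ⟨m, hm⟩
      have hh : order h' = ((c + j * d + m : ℕ) : ℕ∞) := by
        rw [order_mul, order_pow, had, hgord, nsmul_eq_mul]
        norm_cast
        ring
      refine ⟨l + Pi.single ⟨m, hm⟩ (coeff (c + j * d + m) R / coeff (c + j * d + m) h'),
        nat_le_order_iff.2 fun i hi => ?_⟩
      have e : F - ∑ r, C ((l + Pi.single ⟨m, hm⟩ (coeff (c + j * d + m) R / coeff (c + j * d + m) h') : Fin d → k) r) * a ^ j * g r =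
          R - C (coeff (c + j * d + m) R / coeff (c + j * d + m) h') * h' := by
        generalize coeff (c + j * d + m) R / coeff (c + j * d + m) h' = δ
        have hs : ∑ r, C ((Pi.single ⟨m, hm⟩ δ : Fin d → k) r) * a ^ j * g r = C δ * h' := by
          rw [Finset.sum_eq_single (⟨m, hm⟩ : Fin d) (fun b _ hb => by simp [hb]) (by simp), Pi.single_eq_same,
            mul_assoc]
        simp only [R, Pi.add_apply, map_add, add_mul, Finset.sum_add_distrib, hs]
        ring
      rw [e, map_sub, coeff_C_mul]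
      rcases Nat.lt_succ_iff_lt_or_eq.1 (show i < (c + j * d + m) + 1 by omega) with hlt | rfl
      · rw [coeff_eq_zero_of_lt hl hlt, coeff_eq_zero_of_lt hh.ge hlt, mul_zero, sub_zero]
      · rw [div_mul_cancel₀ _ (coeff_ne_zero_of_order_eq hh), sub_self]
  choose L hL using fun (j : ℕ) (F : {F : PowerSeries k // ((c + j * d : ℕ) : ℕ∞) ≤ order F}) =>
    hblock j d F.1 F.2 le_rfl
  let rem : (j : ℕ) → {F : PowerSeries k // ((c + j * d : ℕ) : ℕ∞) ≤ order F} := fun j =>
    Nat.rec ⟨f, by simpa using hf⟩ (fun j F => ⟨F.1 - ∑ r, C (L j F r) * a ^ j * g r, by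
      have := hL j F
      rwa [show c + j * d + d = c + (j + 1) * d by ring] at this⟩) j
  let s : Fin d → ℕ → PowerSeries k := fun r j => ∑ i ∈ Finset.range j, C (L i (rem i) r) * a ^ i
  have hsA : ∀ r j, s r j ∈ A := fun r j =>
    A.sum_mem fun i _ => A.mul_mem (A.algebraMap_mem _) (A.pow_mem ha _)
  have hrem : ∀ j, (rem j).1 = f - ∑ r, s r j * g r := by
    intro j
    induction j with
    | zero => simp [rem, s]
    | succ j ih =>
      show (rem j).1 - ∑ r, C (L j (rem j) r) * a ^ j * g r = _
      rw [ih, sub_sub, ← Finset.sum_add_distrib]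
      congr 1
      refine Finset.sum_congr rfl fun r _ => ?_
      simp only [s, Finset.sum_range_succ]
      ring
  let α : Fin d → PowerSeries k := fun r => mk fun m => coeff m (s r (m + 1))
  have hstab : ∀ r j m, m < j → coeff m (s r j) = coeff m (s r (m + 1)) := by
    intro r j m hm
    induction j with
    | zero => omega
    | succ j ih =>
      rcases Nat.lt_succ_iff_lt_or_eq.1 hm with hlt | rfl
      · rw [← ih hlt]
        simp only [s, Finset.sum_range_succ, map_add]
        rw [coeff_C_mul, coeff_eq_zero_of_lt (f := a ^ j) (n := j) ?_ hlt, mul_zero, add_zero]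
        rw [order_pow, had, nsmul_eq_mul]
        exact_mod_cast Nat.le_mul_of_pos_right j hd
      · rfl
  have hαord : ∀ r (j : ℕ), (j : ℕ∞) ≤ order (α r - s r j) := fun r j => nat_le_order_iff.2 fun m hm => by
    rw [map_sub, coeff_mk, hstab r j m hm, sub_self]
  have hαA : ∀ r, α r ∈ A := fun r => hcl _ fun n => ⟨s r n, hsA r n, hαord r n⟩
  have hfeq : f = ∑ r, α r * g r := by
    refine sub_eq_zero.1 (ext fun m => ?_)
    rw [map_zero]
    have e : f - ∑ r, α r * g r = (rem (m + 1)).1 - ∑ r, (α r - s r (m + 1)) * g r := by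
      rw [hrem]
      simp only [sub_mul, Finset.sum_sub_distrib]
      ring
    rw [e, map_sub, map_sum, coeff_eq_zero_of_lt (rem (m + 1)).2 (by have := Nat.le_mul_of_pos_right (m + 1) hd; omega),
      zero_sub, neg_eq_zero]
    refine Finset.sum_eq_zero fun r _ => coeff_eq_zero_of_lt (n := m + 1) ?_ (Nat.lt_succ_self m)
    rw [order_mul]
    exact le_trans (hαord r (m + 1)) le_self_add
  rw [hfeq]
  exact N.sum_mem fun r _ => N.smul_mem ⟨α r, hαA r⟩ (hg r)

end Groth.Agent.TFCurv38
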