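import Groth.Agent.TFCurv38.Presentation
import Groth.Agent.TFCurv38.LenDim
import Groth.Agent.TFCurv38.Series
import Mathlib.RingTheory.PowerSeries.Inverse
import Mathlib.LinearAlgebra.Pi
import Mathlib.Algebra.Algebra.Prod

/-! The local ring of two smooth branches with contact of order `δ`. -/

set_option autoImplicit false

noncomputable section

namespace Groth.Agent.TFCurv38

open PowerSeries CategoryTheory Abelian

universe u

variable {k : Type u} [Field k] {δ : ℕ} {O : Subalgebra k (PowerSeries k × PowerSeries k)}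
  (hO : ∀ f : PowerSeries k × PowerSeries k, f ∈ O ↔ (δ : ℕ∞) ≤ order (f.1 - f.2))

local instance (priority := high) (O : Subalgebra k (PowerSeries k × PowerSeries k)) : Ring O := O.toRing

theorem nat_le_order_iff_dvd {f : PowerSeries k} {n : ℕ} :
    (n : ℕ∞) ≤ order f ↔ (X : PowerSeries k) ^ n ∣ f := by
  rw [X_pow_dvd_iff, nat_le_order_iff]

include hO in
theorem mem_iff_dvd (f : PowerSeries k × PowerSeries k) : f ∈ O ↔ (X : PowerSeries k) ^ δ ∣ f.1 - f.2 :=
  (hO f).trans nat_le_order_iff_dvd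

theorem smul_pair (a : O) (p : PowerSeries k × PowerSeries k) :
    a • p = ((a : PowerSeries k × PowerSeries k).1 * p.1, (a : PowerSeries k × PowerSeries k).2 * p.2) := rfl

include hO in
theorem isLocalRing_two (hδ : 1 ≤ δ) : IsLocalRing O := by
  have hu : ∀ a : O, IsUnit a ↔ constantCoeff (a : PowerSeries k × PowerSeries k).2 ≠ 0 := fun a => by
    constructor
    · intro h
      exact (PowerSeries.isUnit_iff_constantCoeff.1
        ((h.map O.val).map (RingHom.snd (PowerSeries k) (PowerSeries k)))).ne_zero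
    · intro h
      have hd := (mem_iff_dvd hO _).1 a.2
      have h1 : constantCoeff (a : PowerSeries k × PowerSeries k).1 ≠ 0 := by
        have h' := X_pow_dvd_iff.1 hd 0 (by omega)
        rw [coeff_zero_eq_constantCoeff, map_sub, sub_eq_zero] at h'
        rwa [h']
      have hm : ((a : PowerSeries k × PowerSeries k).1⁻¹, (a : PowerSeries k × PowerSeries k).2⁻¹) ∈ O := by
        rw [mem_iff_dvd hO]
        have e1 := PowerSeries.mul_inv_cancel _ h1
        have e2 := PowerSeries.mul_inv_cancel _ h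
        have e : (a : PowerSeries k × PowerSeries k).1⁻¹ - (a : PowerSeries k × PowerSeries k).2⁻¹ =
            ((a : PowerSeries k × PowerSeries k).1 - (a : PowerSeries k × PowerSeries k).2) *
              (-((a : PowerSeries k × PowerSeries k).1⁻¹ * (a : PowerSeries k × PowerSeries k).2⁻¹)) := by
          linear_combination (a : PowerSeries k × PowerSeries k).2⁻¹ * e1 -
            (a : PowerSeries k × PowerSeries k).1⁻¹ * e2
        exact e ▸ hd.mul_right _
      exact IsUnit.of_mul_eq_one ⟨_, hm⟩ (Subtype.ext (Prod.ext (PowerSeries.mul_inv_cancel _ h1)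
        (PowerSeries.mul_inv_cancel _ h)))
  refine IsLocalRing.of_nonunits_add fun a b ha hb => ?_
  simp only [mem_nonunits_iff, hu, not_not] at ha hb ⊢
  rw [Subalgebra.coe_add, Prod.snd_add, map_add, ha, hb, add_zero]

include hO in
theorem residue_surjective_two (hδ : 1 ≤ δ) [IsLocalRing O] :
    Function.Surjective (algebraMap k (IsLocalRing.ResidueField O)) := by
  intro x
  obtain ⟨a, rfl⟩ := IsLocalRing.residue_surjective x
  refine ⟨constantCoeff (a : PowerSeries k × PowerSeries k).2, ?_⟩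
  rw [IsScalarTower.algebraMap_apply k O (IsLocalRing.ResidueField O), ← sub_eq_zero,
    show algebraMap O (IsLocalRing.ResidueField O) = IsLocalRing.residue O from rfl, ← map_sub,
    IsLocalRing.residue_eq_zero_iff, IsLocalRing.mem_maximalIdeal, mem_nonunits_iff]
  intro h
  have h' := (PowerSeries.isUnit_iff_constantCoeff.1
    ((h.map O.val).map (RingHom.snd (PowerSeries k) (PowerSeries k)))).ne_zero
  exact h' (by simp)

include hO in
theorem mem_span_two {j : ℕ} (hj : j ≤ δ) (p : PowerSeries k × PowerSeries k) :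
    p ∈ Submodule.span O ({((X : PowerSeries k) ^ j, (X : PowerSeries k) ^ j), ((X : PowerSeries k) ^ δ, 0)} :
      Set (PowerSeries k × PowerSeries k)) ↔
      (X : PowerSeries k) ^ j ∣ p.2 ∧ (X : PowerSeries k) ^ δ ∣ p.1 - p.2 := by
  rw [Submodule.mem_span_pair]
  constructor
  · rintro ⟨a, b, rfl⟩
    refine ⟨⟨(a : PowerSeries k × PowerSeries k).2, by simp [smul_pair, mul_comm]⟩, ?_⟩
    obtain ⟨c, hc⟩ := (mem_iff_dvd hO _).1 a.2
    refine ⟨c * X ^ j + (b : PowerSeries k × PowerSeries k).1, ?_⟩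
    simp only [smul_pair, Prod.fst_add, Prod.snd_add, mul_zero, add_zero]
    linear_combination (X : PowerSeries k) ^ j * hc
  · rintro ⟨⟨a, ha⟩, ⟨b, hb⟩⟩
    refine ⟨⟨(a, a), (mem_iff_dvd hO _).2 (by simp)⟩, ⟨(b, b), (mem_iff_dvd hO _).2 (by simp)⟩, ?_⟩
    refine Prod.ext ?_ ?_
    · simp only [smul_pair, Prod.fst_add]
      linear_combination -ha - hb
    · simp only [smul_pair, Prod.snd_add]
      linear_combination -ha

include hO in
theorem length_ext_two [IsLocalRing O] (hδ : 1 ≤ δ) (i j : ℕ) (hi : i ≤ δ) (hj : j ≤ δ)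
    (M N : Submodule O (PowerSeries k × PowerSeries k))
    (hM : M = Submodule.span O {((X : PowerSeries k) ^ i, (X : PowerSeries k) ^ i), ((X : PowerSeries k) ^ δ, 0)})
    (hN : N = Submodule.span O {((X : PowerSeries k) ^ j, (X : PowerSeries k) ^ j), ((X : PowerSeries k) ^ δ, 0)}) :
    Module.length O (Ext (ModuleCat.of O M) (ModuleCat.of O N) 1) = ((2 * min i j : ℕ) : ℕ∞) := by
  classical
  have hNmem : ∀ p, p ∈ N ↔ (X : PowerSeries k) ^ j ∣ p.2 ∧ (X : PowerSeries k) ^ δ ∣ p.1 - p.2 := fun p => by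
    rw [hN, mem_span_two hO hj]
  let g0 : PowerSeries k × PowerSeries k := (X ^ i, X ^ i)
  let g : Fin 1 → PowerSeries k × PowerSeries k := fun _ => (X ^ δ, 0)
  let d : O := ⟨(X ^ i, X ^ i), (mem_iff_dvd hO _).2 (by simp)⟩
  let c : Fin 1 → O := fun _ => ⟨(X ^ δ, 0), (mem_iff_dvd hO _).2 (by simp)⟩
  have hXi : ∀ x : PowerSeries k, (X : PowerSeries k) ^ i * x = 0 → x = 0 := fun x h =>
    (mul_eq_zero.1 h).resolve_left (pow_ne_zero _ X_ne_zero)
  rw [length_ext_of_relations g0 g d (fun x hx => Prod.ext (hXi _ (congrArg Prod.fst hx)) (hXi _ (congrArg Prod.snd hx)))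
    (fun a ha => Subtype.ext (Prod.ext (hXi _ (by rw [mul_comm]; exact congrArg Prod.fst ha))
      (hXi _ (by rw [mul_comm]; exact congrArg Prod.snd ha)))) c
    (fun _ => by simp [c, d, g, g0, smul_pair, mul_comm]) M N (by rw [hM, Set.range_const])]
  let μ := min i j
  let m := max i j
  have hμ : m + μ = i + j := max_add_min i j
  have hW : ∀ u, u ∈ relForms g0 g d N ↔
      (X : PowerSeries k) ^ m ∣ (u 0).2 ∧ (X : PowerSeries k) ^ δ ∣ (u 0).1 - (u 0).2 := by
    intro u
    constructor
    · intro hu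
      obtain ⟨y, hy, hy'⟩ := hu (fun _ => d) ⟨-c 0, by simp [d, c, g, g0, smul_pair, mul_comm]⟩
      obtain ⟨y', hy₂, hy''⟩ := hu (fun _ => ⟨(0, X ^ δ), (mem_iff_dvd hO _).2 (by simp)⟩)
        ⟨0, by simp [g, smul_pair]⟩
      simp only [Fin.sum_univ_one] at hy' hy''
      have e : y = u 0 := Prod.ext (mul_left_cancel₀ (pow_ne_zero i X_ne_zero) (congrArg Prod.fst hy'))
        (mul_left_cancel₀ (pow_ne_zero i X_ne_zero) (congrArg Prod.snd hy'))
      subst e
      have e1 : y'.1 = 0 := hXi _ ((congrArg Prod.fst hy'').trans (zero_mul _))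
      have e2 : (X : PowerSeries k) ^ i * y'.2 = X ^ δ * (u 0).2 := congrArg Prod.snd hy''
      refine ⟨?_, ((hNmem _).1 hy).2⟩
      have h3 := ((hNmem _).1 hy₂).2
      rw [e1, zero_sub, dvd_neg] at h3
      obtain ⟨w, hw⟩ := h3
      rw [hw, mul_left_comm] at e2
      rcases le_total i j with h | h
      · rw [show m = j from max_eq_right h]
        exact ((hNmem _).1 hy).1
      · rw [show m = i from max_eq_left h]
        exact ⟨w, (mul_left_cancel₀ (pow_ne_zero δ X_ne_zero) e2).symm⟩
    · intro hu z hz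
      obtain ⟨z0, hz0⟩ := hz
      simp only [Fin.sum_univ_one, g, g0, smul_pair, Prod.mk_add_mk, Prod.mk_eq_zero, mul_zero, add_zero] at hz0
      obtain ⟨e1, e2⟩ := hz0
      have h2 : (z0 : PowerSeries k × PowerSeries k).2 = 0 := hXi _ (by rw [mul_comm]; exact e2)
      obtain ⟨w, hw⟩ := (mem_iff_dvd hO _).1 z0.2
      rw [h2, sub_zero] at hw
      obtain ⟨r, hr⟩ := (mem_iff_dvd hO _).1 (z 0).2
      have h1 : (z 0 : PowerSeries k × PowerSeries k).1 = X ^ i * (-w) := by
        refine mul_left_cancel₀ (pow_ne_zero δ X_ne_zero) ?_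
        linear_combination e1 - (X : PowerSeries k) ^ i * hw
      obtain ⟨a, ha⟩ : (X : PowerSeries k) ^ i ∣ (u 0).2 := (pow_dvd_pow _ (le_max_left i j)).trans hu.1
      obtain ⟨b, hb⟩ := hu.2
      refine ⟨(-w * (u 0).1, -w * (u 0).2 - X ^ δ * r * (a)), (hNmem _).2 ⟨?_, ?_⟩, ?_⟩
      · exact dvd_sub (dvd_mul_of_dvd_right ((pow_dvd_pow _ (le_max_right i j)).trans hu.1) _)
          (dvd_mul_of_dvd_left (dvd_mul_of_dvd_left (pow_dvd_pow _ hj) _) _)
      · refine ⟨-w * b + r * a, ?_⟩
        linear_combination -w * hb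
      · refine Prod.ext ?_ ?_
        · simp only [Fin.sum_univ_one, d, smul_pair]
          linear_combination -(u 0).1 * h1
        · simp only [Fin.sum_univ_one, d, smul_pair]
          linear_combination -(u 0).2 * h1 + (u 0).2 * hr + X ^ δ * r * ha
  have hB : ∀ u, u ∈ freeForms d c N ↔
      (X : PowerSeries k) ^ (i + j) ∣ (u 0).2 ∧ (X : PowerSeries k) ^ (δ + μ) ∣ (u 0).1 - (u 0).2 := by
    intro u
    constructor
    · rintro ⟨n0, hn0, n, hn, hu⟩
      obtain ⟨⟨a, ha⟩, ⟨b, hb⟩⟩ := (hNmem _).1 (hn 0)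
      obtain ⟨⟨a', ha'⟩, ⟨b', hb'⟩⟩ := (hNmem _).1 hn0
      rw [hu 0]
      simp only [smul_pair, c, d, Prod.fst_sub, Prod.snd_sub, zero_mul, sub_zero]
      refine ⟨⟨a, by rw [ha, pow_add]; ring⟩, ?_⟩
      have hf : (X : PowerSeries k) ^ μ ∣ n0.1 := by
        have : n0.1 = X ^ δ * b' + X ^ j * a' := by linear_combination hb' + ha'
        rw [this]
        exact dvd_add (dvd_mul_of_dvd_left (pow_dvd_pow _ ((min_le_right i j).trans hj)) _)
          (dvd_mul_of_dvd_left (pow_dvd_pow _ (min_le_right i j)) _)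
      rw [show (X : PowerSeries k) ^ i * (n 0).1 - X ^ δ * n0.1 - X ^ i * (n 0).2 =
        X ^ δ * (X ^ i * b - n0.1) by linear_combination (X : PowerSeries k) ^ i * hb, pow_add]
      exact mul_dvd_mul_left _ (dvd_sub (dvd_mul_of_dvd_left (pow_dvd_pow _ (min_le_left i j)) _) hf)
    · rintro ⟨⟨a, ha⟩, ⟨r, hr⟩⟩
      rcases le_total i j with h | h
      · rw [show μ = i from min_eq_left h] at hr
        refine ⟨0, N.zero_mem, fun _ => (X ^ j * a + X ^ δ * r, X ^ j * a),
          fun _ => (hNmem _).2 ⟨dvd_mul_right _ _, ⟨r, by ring⟩⟩, fun b => ?_⟩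
        rw [Subsingleton.elim b 0]
        refine Prod.ext ?_ ?_
        · simp only [smul_pair, c, d, Prod.fst_sub, Prod.fst_zero, mul_zero, sub_zero]
          rw [pow_add] at ha hr
          linear_combination ha + hr
        · simp only [smul_pair, c, d, Prod.snd_sub, Prod.snd_zero, mul_zero, sub_zero]
          rw [pow_add] at ha
          linear_combination ha
      · rw [show μ = j from min_eq_right h] at hr
        refine ⟨(-(X ^ j * r), -(X ^ j * r)), (hNmem _).2 ⟨dvd_neg.2 (dvd_mul_right _ _), by simp⟩,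
          fun _ => (X ^ j * a, X ^ j * a), fun _ => (hNmem _).2 ⟨dvd_mul_right _ _, by simp⟩, fun b => ?_⟩
        rw [Subsingleton.elim b 0]
        refine Prod.ext ?_ ?_
        · simp only [smul_pair, c, d, Prod.fst_sub]
          rw [pow_add] at ha hr
          linear_combination ha + hr
        · simp only [smul_pair, c, d, Prod.snd_sub, zero_mul, sub_zero]
          rw [pow_add] at ha
          linear_combination ha
  let P : (Fin 1 → PowerSeries k × PowerSeries k) →ₗ[k] PowerSeries k :=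
    LinearMap.snd k _ _ ∘ₗ LinearMap.proj 0
  let Q : (Fin 1 → PowerSeries k × PowerSeries k) →ₗ[k] PowerSeries k :=
    (LinearMap.fst k _ _ - LinearMap.snd k _ _) ∘ₗ LinearMap.proj 0
  let π : (Fin 1 → PowerSeries k × PowerSeries k) →ₗ[k] (Fin μ ⊕ Fin μ → k) :=
    LinearMap.pi (Sum.elim (fun q => coeff (m + q.1) ∘ₗ P) (fun q => coeff (δ + q.1) ∘ₗ Q))
  rw [length_quotient_of_proj (residue_surjective_two hO hδ) _ _ π ?_ ?_, Fintype.card_sum, Fintype.card_fin]
  · norm_cast
    omega
  · intro v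
    let G : PowerSeries k := X ^ m * mk fun q => if h : q < μ then v (Sum.inl ⟨q, h⟩) else 0
    let H : PowerSeries k := X ^ δ * mk fun q => if h : q < μ then v (Sum.inr ⟨q, h⟩) else 0
    refine ⟨fun _ => (G + H, G), (hW _).2 ⟨dvd_mul_right _ _, by simpa [H] using dvd_mul_right _ _⟩, funext ?_⟩
    rintro (q | q)
    · show coeff (m + q.1) G = _
      simp [G, add_comm m, coeff_X_pow_mul]
    · show coeff (δ + q.1) (G + H - G) = _
      simp [H, add_comm δ, coeff_X_pow_mul]
  · intro u hu
    obtain ⟨h1, h2⟩ := (hW u).1 hu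
    rw [hB, X_pow_dvd_iff, X_pow_dvd_iff, ← hμ]
    constructor
    · rintro ⟨ha, hb⟩
      refine funext ?_
      rintro (q | q)
      · exact ha _ (by have := q.isLt; omega)
      · exact hb _ (by have := q.isLt; omega)
    · intro h
      refine ⟨fun q hq => ?_, fun q hq => ?_⟩
      · rcases Nat.lt_or_ge q m with hlt | hge
        · exact X_pow_dvd_iff.1 h1 q hlt
        · have := congrFun h (Sum.inl ⟨q - m, by omega⟩)
          rw [← Nat.add_sub_cancel' hge]
          exact this
      · rcases Nat.lt_or_ge q δ with hlt | hge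
        · exact X_pow_dvd_iff.1 h2 q hlt
        · have := congrFun h (Sum.inr ⟨q - δ, by omega⟩)
          rw [← Nat.add_sub_cancel' hge]
          exact this

end Groth.Agent.TFCurv38
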