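import Mathlib.Algebra.Homology.ShortComplex.ModuleCat
import Mathlib.Algebra.Category.ModuleCat.Projective
import Mathlib.Algebra.Category.ModuleCat.EnoughInjectives
import Mathlib.Algebra.Category.ModuleCat.Ext.HasExt
import Mathlib.Algebra.Homology.DerivedCategory.Ext.ExactSequences
import Mathlib.Algebra.Homology.DerivedCategory.Ext.EnoughProjectives
import Mathlib.CategoryTheory.Abelian.Injective.Dimension
import Mathlib.Algebra.Module.Injective
import Mathlib.RingTheory.Localization.FractionRing

/-! Extending maps when the first extension group vanishes. -/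

set_option autoImplicit false

universe u

open CategoryTheory Abelian

noncomputable section

namespace Groth.Agent.TFCurv38

variable {R : Type u} [CommRing R] {A B C Y : Type u} [AddCommGroup A] [Module R A] [AddCommGroup B] [Module R B]
  [AddCommGroup C] [Module R C] [AddCommGroup Y] [Module R Y]

/-- The short complex of an injection followed by its cokernel. -/
abbrev sesShort (f : A →ₗ[R] B) (g : B →ₗ[R] C) (hex : LinearMap.range f = LinearMap.ker g) :
    ShortComplex (ModuleCat.{u} R) :=
  ShortComplex.mk (ModuleCat.ofHom f) (ModuleCat.ofHom g)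
    (ModuleCat.hom_ext (LinearMap.range_le_ker_iff.1 hex.le))

theorem sesShort_shortExact (f : A →ₗ[R] B) (g : B →ₗ[R] C) (hf : Function.Injective f) (hg : Function.Surjective g)
    (hex : LinearMap.range f = LinearMap.ker g) : (sesShort f g hex).ShortExact :=
  { exact := (ShortComplex.moduleCat_exact_iff_range_eq_ker _).2 hex
    mono_f := (ModuleCat.mono_iff_injective _).2 hf
    epi_g := (ModuleCat.epi_iff_surjective _).2 hg }

theorem exists_extend (f : A →ₗ[R] B) (hf : Function.Injective f)
    (h : Subsingleton (Ext (ModuleCat.of R (B ⧸ LinearMap.range f)) (ModuleCat.of R Y) 1)) (φ : A →ₗ[R] Y) :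
    ∃ ψ : B →ₗ[R] Y, ψ ∘ₗ f = φ := by
  have hS := sesShort_shortExact f (LinearMap.range f).mkQ hf (Submodule.mkQ_surjective _) (Submodule.ker_mkQ _).symm
  obtain ⟨y, hy⟩ := Ext.contravariant_sequence_exact₁ hS (ModuleCat.of R Y) (n₀ := 0)
    (Ext.mk₀ (ModuleCat.ofHom φ)) (n₁ := 1) rfl (h.elim _ _)
  obtain ⟨g, rfl⟩ := (Ext.mk₀_bijective _ _).2 y
  rw [Ext.mk₀_comp_mk₀] at hy
  exact ⟨g.hom, congrArg ModuleCat.Hom.hom ((Ext.mk₀_bijective _ _).1 hy)⟩

/-- The fraction field has no first extensions. -/
theorem ext_one_fractionRing (O : Type u) [CommRing O] [IsDomain O] (K : Type u) [Field K] [Algebra O K]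
    [IsFractionRing O K] (X : ModuleCat.{u} O) : Subsingleton (Ext X (ModuleCat.of O K) 1) := by
  classical
  have hb : Module.Baer O K := by
    intro I g
    by_cases hI : ∃ a : I, a ≠ 0
    · obtain ⟨a, ha⟩ := hI
      have ha' : algebraMap O K a ≠ 0 :=
        IsFractionRing.to_map_ne_zero_of_mem_nonZeroDivisors (mem_nonZeroDivisors_of_ne_zero fun h => ha (Subtype.ext h))
      refine ⟨LinearMap.toSpanSingleton O K (g a / algebraMap O K a), fun x hx => ?_⟩
      have h : (a : O) • g ⟨x, hx⟩ = x • g a := by
        rw [← map_smul, ← map_smul]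
        exact congrArg g (Subtype.ext (mul_comm _ _))
      simp only [LinearMap.toSpanSingleton_apply, Algebra.smul_def] at h ⊢
      rw [mul_div_assoc', ← h, mul_div_cancel_left₀ _ ha']
    · push_neg at hI
      exact ⟨0, fun x hx => by rw [LinearMap.zero_apply, hI ⟨x, hx⟩, map_zero]⟩
  have : Injective (ModuleCat.of O K) :=
    (Module.injective_iff_injective_object O K).1 (Module.Baer.injective hb)
  exact subsingleton_of_forall_eq 0 fun x => Ext.eq_zero_of_injective x

/-- The quotient of the fraction field by `ω` has no first extensions. -/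
theorem ext_one_quotient (O : Type u) [CommRing O] [IsDomain O] (K : Type u) [Field K] [Algebra O K]
    [IsFractionRing O K] (ω : Submodule O K) (hω : HasInjectiveDimensionLT (ModuleCat.of O ↥ω) 2)
    (X : ModuleCat.{u} O) : Subsingleton (Ext X (ModuleCat.of O (K ⧸ ω)) 1) := by
  have hS := sesShort_shortExact ω.subtype ω.mkQ ω.injective_subtype (Submodule.mkQ_surjective _)
    (by rw [Submodule.range_subtype, Submodule.ker_mkQ])
  refine subsingleton_of_forall_eq 0 fun x => ?_
  obtain ⟨y, hy⟩ := Ext.covariant_sequence_exact₃ X hS x (n₁ := 2) rfl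
    (Ext.eq_zero_of_hasInjectiveDimensionLT _ 2 le_rfl)
  rw [← hy, (ext_one_fractionRing O K X).elim y 0, Ext.zero_comp]

end Groth.Agent.TFCurv38
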