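import Groth.Agent.TFCurv38.ExtOne
import Mathlib.LinearAlgebra.Finsupp.LinearCombination
import Mathlib.Algebra.BigOperators.Fin

/-! Extensions of a module spanned inside an algebra, through its relations. -/

set_option autoImplicit false

universe u

open CategoryTheory Abelian

noncomputable section

namespace Groth.Agent.TFCurv38

variable {A : Type u} [CommRing A] {T : Type u} [CommRing T] [Algebra A T] {s : ℕ}

/-- Values at the standard relations of the forms on the relation module. -/
def relForms (g0 : T) (g : Fin s → T) (d : A) (N : Submodule A T) : Submodule A (Fin s → T) where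
  carrier := {u | ∀ z : Fin s → A, (∃ z0 : A, z0 • g0 + ∑ b, z b • g b = 0) →
    ∃ y ∈ N, d • y = ∑ b, z b • u b}
  add_mem' := by
    intro u v hu hv z hz
    obtain ⟨y, hy, hy'⟩ := hu z hz
    obtain ⟨y', hy'', hy'''⟩ := hv z hz
    exact ⟨y + y', N.add_mem hy hy'', by simp [smul_add, hy', hy''', Finset.sum_add_distrib]⟩
  zero_mem' := fun z _ => ⟨0, N.zero_mem, by simp⟩
  smul_mem' := by
    intro r u hu z hz
    obtain ⟨y, hy, hy'⟩ := hu z hz
    refine ⟨r • y, N.smul_mem r hy, ?_⟩
    rw [smul_comm d r, hy', Finset.smul_sum]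
    exact Finset.sum_congr rfl fun b _ => smul_comm _ _ _

/-- Values at the standard relations of the forms on the free module. -/
def freeForms (d : A) (c : Fin s → A) (N : Submodule A T) : Submodule A (Fin s → T) where
  carrier := {u | ∃ n0 ∈ N, ∃ n : Fin s → T, (∀ b, n b ∈ N) ∧ ∀ b, u b = d • n b - c b • n0}
  add_mem' := by
    rintro u v ⟨n0, hn0, n, hn, hu⟩ ⟨m0, hm0, m, hm, hv⟩
    exact ⟨n0 + m0, N.add_mem hn0 hm0, n + m, fun b => N.add_mem (hn b) (hm b), fun b => by
      simp only [Pi.add_apply, hu, hv, smul_add]; abel⟩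
  zero_mem' := ⟨0, N.zero_mem, 0, fun b => N.zero_mem, fun b => by simp⟩
  smul_mem' := by
    rintro r u ⟨n0, hn0, n, hn, hu⟩
    exact ⟨r • n0, N.smul_mem r hn0, r • n, fun b => N.smul_mem r (hn b), fun b => by
      simp only [Pi.smul_apply, hu, smul_sub, smul_comm r]⟩

theorem length_ext_of_relations (g0 : T) (g : Fin s → T) (d : A)
    (hd : ∀ x : T, d • x = 0 → x = 0) (hg0 : ∀ a : A, a • g0 = 0 → a = 0) (c : Fin s → A)
    (hc : ∀ b, c b • g0 = d • g b) (M N : Submodule A T) (hM : M = Submodule.span A (insert g0 (Set.range g))) :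
    Module.length A (Ext (ModuleCat.of A M) (ModuleCat.of A N) 1) =
      Module.length A (relForms g0 g d N ⧸ (freeForms d c N).comap (relForms g0 g d N).subtype) := by
  classical
  subst hM
  let G : Fin (s + 1) → T := Fin.cons g0 g
  let p0 : (Fin (s + 1) → A) →ₗ[A] T := Fintype.linearCombination A G
  have hrange : LinearMap.range p0 = Submodule.span A (insert g0 (Set.range g)) := by
    rw [show LinearMap.range p0 = Submodule.span A (Set.range G) from Fintype.range_linearCombination A G]
    simp [G, Fin.range_cons]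
  let p : (Fin (s + 1) → A) →ₗ[A] Submodule.span A (insert g0 (Set.range g)) :=
    p0.codRestrict _ fun x => hrange ▸ LinearMap.mem_range_self p0 x
  have hp : Function.Surjective p := fun m => by
    obtain ⟨x, hx⟩ : (m : T) ∈ LinearMap.range p0 := hrange.symm ▸ m.2
    exact ⟨x, Subtype.ext hx⟩
  let K := LinearMap.ker p
  have hKmem : ∀ x : (Fin (s + 1) → A), x ∈ K ↔ x 0 • g0 + ∑ b, x b.succ • g b = 0 := fun x => by
    rw [LinearMap.mem_ker, Subtype.ext_iff]
    show p0 x = 0 ↔ _
    rw [Fintype.linearCombination_apply, Fin.sum_univ_succ]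
    simp [G]
  let v : Fin s → K := fun b => ⟨Fin.cons (-c b) (Pi.single b d), by
    rw [hKmem, Fin.cons_zero, Finset.sum_eq_single b]
    · rw [Fin.cons_succ, Pi.single_eq_same, neg_smul, hc, neg_add_cancel]
    · intro b' _ hb'
      rw [Fin.cons_succ, Pi.single_eq_of_ne hb', zero_smul]
    · simp⟩
  have hkey : ∀ z : K, d • z = ∑ b, (z : (Fin (s + 1) → A)) b.succ • v b := fun z => by
    refine Subtype.ext (funext fun a => ?_)
    simp only [Submodule.coe_smul, AddSubmonoidClass.coe_finsetSum, Finset.sum_apply, Pi.smul_apply, smul_eq_mul, v]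
    refine Fin.cases ?_ (fun b' => ?_) a
    · try simp only [Fin.cons_zero]
      refine sub_eq_zero.1 (hg0 _ ?_)
      rw [sub_smul, Finset.sum_smul]
      have h := (hKmem _).1 z.2
      simp only [mul_smul, neg_smul, smul_neg, Finset.sum_neg_distrib, hc, sub_neg_eq_add, smul_comm _ d,
        ← Finset.smul_sum, ← smul_add, h, smul_zero]
    · try simp only [Fin.cons_succ]
      rw [Finset.sum_eq_single b', Pi.single_eq_same, mul_comm]
      · intro b _ hb
        rw [Pi.single_eq_of_ne (Ne.symm hb), mul_zero]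
      · simp
  have hdN : ∀ (φ : K →ₗ[A] N) (z : K), d • (φ z : T) = ∑ b, (z : (Fin (s + 1) → A)) b.succ • (φ (v b) : T) := fun φ z => by
    have h := congrArg (fun n : N => (n : T)) ((map_smul φ d z).symm.trans ((congrArg φ (hkey z)).trans (map_sum φ _ _)))
    simpa using h
  let Ψ : (K →ₗ[A] N) →ₗ[A] relForms g0 g d N :=
    { toFun := fun φ => ⟨fun b => (φ (v b) : T), fun z ⟨z0, hz⟩ =>
        ⟨φ ⟨Fin.cons z0 z, (hKmem _).2 (by simpa using hz)⟩, (φ _).2, by
          rw [hdN]; simp⟩⟩
      map_add' := fun φ φ' => Subtype.ext (funext fun b => by simp)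
      map_smul' := fun r φ => Subtype.ext (funext fun b => by simp) }
  have hΨinj : Function.Injective Ψ := fun φ φ' h => by
    refine LinearMap.ext fun z => Subtype.ext (sub_eq_zero.1 (hd _ ?_))
    rw [smul_sub, hdN, hdN, sub_eq_zero]
    exact Finset.sum_congr rfl fun b _ => by
      rw [show (φ (v b) : T) = φ' (v b) from congrFun (congrArg Subtype.val h) b]
  have hdinj : ∀ x y : T, d • x = d • y → x = y := fun x y h => sub_eq_zero.1 (hd _ (by rw [smul_sub, h, sub_self]))
  have hΨsurj : Function.Surjective Ψ := fun u => by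
    have hex : ∀ z : K, ∃ y ∈ N, d • y = ∑ b, (z : (Fin (s + 1) → A)) b.succ • (u : Fin s → T) b :=
      fun z => u.2 _ ⟨(z : (Fin (s + 1) → A)) 0, (hKmem _).1 z.2⟩
    choose y hy hy' using hex
    let φ : K →ₗ[A] N :=
      { toFun := fun z => ⟨y z, hy z⟩
        map_add' := fun z z' => Subtype.ext (hdinj _ _ (by
          show d • y (z + z') = d • (y z + y z')
          rw [smul_add, hy', hy', hy', ← Finset.sum_add_distrib]
          exact Finset.sum_congr rfl fun b _ => by simp [add_smul]))
        map_smul' := fun r z => Subtype.ext (hdinj _ _ (by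
          show d • y (r • z) = d • (r • y z)
          rw [smul_comm, hy', hy', Finset.smul_sum]
          exact Finset.sum_congr rfl fun b _ => by simp [mul_smul])) }
    refine ⟨φ, Subtype.ext (funext fun b => hdinj _ _ ?_)⟩
    show d • y (v b) = _
    rw [hy', Finset.sum_eq_single b]
    · simp [v]
    · intro b' _ hb'
      simp [v, Pi.single_eq_of_ne hb']
    · simp
  let e := LinearEquiv.ofBijective Ψ ⟨hΨinj, hΨsurj⟩
  rw [length_ext_one K.subtype p K.injective_subtype hp K.range_subtype]
  refine (Submodule.Quotient.equiv _ _ e ?_).length_eq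
  ext u
  simp only [Submodule.mem_map, LinearMap.mem_range, Submodule.mem_comap]
  constructor
  · rintro ⟨_, ⟨h, rfl⟩, rfl⟩
    refine ⟨h (Pi.single 0 1), (h _).2, fun b => h (Pi.single b.succ 1), fun b => (h _).2, fun b => ?_⟩
    show (h (v b : (Fin (s + 1) → A)) : T) = _
    have hvb : (v b : (Fin (s + 1) → A)) = d • Pi.single b.succ 1 - c b • Pi.single 0 1 := by
      funext a
      refine Fin.cases ?_ (fun b' => ?_) a
      · simp [v, (Fin.succ_ne_zero b).symm]
      · simp [v, Pi.single_apply, Fin.succ_ne_zero]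
    rw [hvb, map_sub, map_smul, map_smul]
    rfl
  · rintro ⟨n0, hn0, n, hn, hu⟩
    let h : (Fin (s + 1) → A) →ₗ[A] N := Fintype.linearCombination A
      (Fin.cons (⟨n0, hn0⟩ : N) (fun b => ⟨n b, hn b⟩) : Fin (s + 1) → N)
    refine ⟨h.comp K.subtype, ⟨h, rfl⟩, Subtype.ext (funext fun b => ?_)⟩
    show ((h (v b : (Fin (s + 1) → A)) : N) : T) = (u : Fin s → T) b
    rw [show (u : Fin s → T) b = _ from hu b, Fintype.linearCombination_apply, Fin.sum_univ_succ, Finset.sum_eq_single b]
    · simp [v, sub_eq_add_neg, add_comm]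
    · intro b' _ hb'
      simp [v, Pi.single_eq_of_ne hb']
    · simp

end Groth.Agent.TFCurv38
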